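import Groth.Agent.FontaineLib.Ramif
import Mathlib.Algebra.Polynomial.Div

/-! The valuation of `f(β)` for an approximate root `β`, and the final inequality on integers. -/

set_option linter.unusedSectionVars false

universe u

open IsLocalRing IsDiscreteValuationRing Polynomial

local notation "𝔪" => IsLocalRing.maximalIdeal

namespace FontaineLib

section Approx

variable {S T : Type u} [CommRing S] [IsDomain S] [IsDiscreteValuationRing S]
  [CommRing T] [IsDomain T] [IsDiscreteValuationRing T]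
  {G : Type*} [Group G] [Fintype G] [DecidableEq G]

/-- Valuations at an approximate root `b`, the product `∏ σ, (b - r σ)` playing the part of `f(b)`. -/
theorem ord_approx (ι : S →+* T) (hι : Function.Injective ι) {πS : S} (hπS : Irreducible πS)
    (hpos : 0 < ord (ι πS))
    (r : G → S) (i : G → ℕ) (hne : ∀ σ τ, τ ≠ 1 → r σ ≠ r (σ * τ))
    (hd : ∀ σ τ, τ ≠ 1 → ord (r σ - r (σ * τ)) = i τ) (gS : S[X]) (hg : ∀ σ, Irreducible (gS.eval (r σ)))
    {c : S} {e : ℕ} (hc : c ≠ 0) (hec : ord c = e)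
    {N s k W : ℕ} (hN : N.Prime) (heN : e < N) (hs : 0 < s) (hk : k < e) (hW : s * e + k * N = W)
    (hWe : e * N < W)
    (hq : ((Finset.univ.erase (1 : G)).filter fun τ => 0 < i τ).card + 1 ≤ e)
    {ϖ : T} (hϖ : ϖ ^ N = ι c) {b : T} {u : T} (hu : IsUnit u)
    (hrel : (∏ σ, (b - ι (r σ))) * u = ϖ ^ s * gS.eval₂ ι b ^ k) :
    (∏ σ, (b - ι (r σ))) ≠ 0 ∧ gS.eval₂ ι b ≠ 0 ∧ ord (gS.eval₂ ι b) = ord (ι πS) ∧
    ∃ h' R : ℕ, 0 < h' ∧ ord (ι πS) = N * h' ∧ ord (∏ σ, (b - ι (r σ))) = W * h' ∧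
      ord (∏ σ, (b - ι (r σ))) =
        R + ∑ τ ∈ Finset.univ.erase (1 : G), min R (ord (ι πS) * i τ) := by
  classical
  have hι0 : ∀ {x : S}, x ≠ 0 → ι x ≠ 0 := fun hx h => hx (hι (h.trans (map_zero ι).symm))
  have hϖ0 : ϖ ≠ 0 := fun h => hι0 hc (by rw [← hϖ, h, zero_pow hN.ne_zero])
  have h1 : N * ord ϖ = e * ord (ι πS) := by
    rw [← ord_pow hϖ0, hϖ, ord_map ι hι hπS hc, hec]
  have he0 : 0 < e := by omega
  obtain ⟨h', hh'⟩ : N ∣ ord (ι πS) :=
    (hN.dvd_mul.1 ⟨ord ϖ, h1.symm⟩).resolve_left fun h => Nat.not_lt.2 (Nat.le_of_dvd he0 h) heN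
  have hh'0 : 0 < h' := by
    rcases Nat.eq_zero_or_pos h' with rfl | h
    · simp [hh'] at hpos
    · exact h
  have hϖe : ord ϖ = e * h' := by
    refine Nat.eq_of_mul_eq_mul_left hN.pos ?_
    rw [h1, hh']; ring
  have hgr : ∀ σ, gS.eval₂ ι (ι (r σ)) = ι (gS.eval (r σ)) := fun σ => Polynomial.eval₂_at_apply ι (r σ)
  have hb : ∀ σ, b ≠ ι (r σ) := by
    intro σ hσ
    have h0 : (∏ σ, (b - ι (r σ))) = 0 := Finset.prod_eq_zero (Finset.mem_univ σ) (by rw [hσ, sub_self])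
    rw [h0, zero_mul, hσ, hgr] at hrel
    exact mul_ne_zero (pow_ne_zero _ hϖ0) (pow_ne_zero _ (hι0 (hg σ).ne_zero)) hrel.symm
  have hP0 : (∏ σ, (b - ι (r σ))) ≠ 0 := Finset.prod_ne_zero_iff.2 fun σ _ => sub_ne_zero.2 (hb σ)
  obtain ⟨σ₀, hσ₀⟩ := exists_closest (fun σ => ι (r σ)) b (fun τ => ord (ι πS) * i τ)
    (fun σ τ hτ h => hne σ τ hτ (hι h)) (fun σ τ hτ => by
      rw [← map_sub, ord_map ι hι hπS (sub_ne_zero.2 (hne σ τ hτ)), hd σ τ hτ, mul_comm]) hb
  set R := ord (b - ι (r σ₀)) with hR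
  have hd0 : b - ι (r σ₀) ≠ 0 := sub_ne_zero.2 (hb σ₀)
  have hk0 : gS.eval₂ ι b ^ k ≠ 0 := right_ne_zero_of_mul (hrel ▸ mul_ne_zero hP0 hu.ne_zero)
  have hord : ord (∏ σ, (b - ι (r σ))) = s * (e * h') + ord (gS.eval₂ ι b ^ k) := by
    have := congrArg ord hrel
    rwa [ord_mul hP0 hu.ne_zero, (ord_eq_zero_iff hu.ne_zero).2 hu, add_zero,
      ord_mul (pow_ne_zero _ hϖ0) hk0, ord_pow hϖ0, hϖe] at this
  obtain ⟨q, hqd⟩ : b - ι (r σ₀) ∣ gS.eval₂ ι b - ι (gS.eval (r σ₀)) := by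
    rw [← hgr, ← eval_map, ← eval_map]
    exact Polynomial.sub_dvd_eval_sub _ _ _
  have hg0 : ι (gS.eval (r σ₀)) ≠ 0 := hι0 (hg σ₀).ne_zero
  have hg1 : ord (ι (gS.eval (r σ₀))) = ord (ι πS) := by
    rw [ord_map ι hι hπS (hg σ₀).ne_zero, ord_irreducible (hg σ₀), one_mul]
  have hRbig : ord (ι πS) < R := by
    by_contra hle
    push Not at hle
    have h2 : gS.eval₂ ι b ∈ 𝔪 T ^ R := by
      rw [eq_add_of_sub_eq hqd]
      refine add_mem (Ideal.mul_mem_right _ _ ((le_ord_iff hd0).1 le_rfl)) ((le_ord_iff hg0).1 ?_)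
      omega
    have h3 : R * k ≤ ord (gS.eval₂ ι b ^ k) := by
      rw [le_ord_iff hk0, pow_mul]
      exact Ideal.pow_mem_pow h2 k
    have h4 : ∑ τ ∈ Finset.univ.erase (1 : G), min R (ord (ι πS) * i τ) ≤
        ((Finset.univ.erase (1 : G)).filter fun τ => 0 < i τ).card * R := by
      rw [← smul_eq_mul, ← Finset.sum_const, Finset.sum_filter]
      refine Finset.sum_le_sum fun τ _ => ?_
      split_ifs with h
      · exact min_le_left _ _
      · simp [Nat.eq_zero_of_not_pos h]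
    have h5 : ((Finset.univ.erase (1 : G)).filter fun τ => 0 < i τ).card * R + R ≤ e * R := by
      have := Nat.mul_le_mul_right R hq
      linarith
    have h6 : s * (e * h') + R * k ≤ e * R := by
      rw [hord] at hσ₀
      linarith
    have h7 : (e - k) * R ≤ (e - k) * (N * h') := Nat.mul_le_mul_left _ (hh' ▸ hle)
    have h8 : s * (e * h') + R * k ≤ (e - k) * R + R * k := by
      rw [mul_comm R k, ← Nat.add_mul, Nat.sub_add_cancel hk.le, mul_comm k R]
      exact h6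
    have h9 : (s * e + k * N) * h' ≤ e * N * h' := by
      have h10 : s * (e * h') ≤ (e - k) * (N * h') := by linarith
      have h11 : (e - k) * (N * h') + k * (N * h') = e * (N * h') := by
        rw [← Nat.add_mul, Nat.sub_add_cancel hk.le]
      linarith
    rw [hW] at h9
    exact absurd (Nat.le_of_mul_le_mul_right h9 hh'0) (Nat.not_le.2 hWe)
  have h2 : gS.eval₂ ι b = ι (gS.eval (r σ₀)) + (b - ι (r σ₀)) * q := by
    rw [← hqd]; ring
  have hgb : gS.eval₂ ι b ≠ 0 ∧ ord (gS.eval₂ ι b) = ord (ι πS) := by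
    have hmem : (b - ι (r σ₀)) * q ∈ 𝔪 T ^ (ord (ι πS) + 1) :=
      Ideal.mul_mem_right _ _ ((le_ord_iff hd0).1 hRbig)
    have hn : gS.eval₂ ι b ∉ 𝔪 T ^ (ord (ι πS) + 1) := by
      intro h
      have h3 := sub_mem h hmem
      rw [h2, add_sub_cancel_right] at h3
      have := (le_ord_iff hg0).2 h3
      omega
    have hne : gS.eval₂ ι b ≠ 0 := fun h => hn (h ▸ zero_mem _)
    refine ⟨hne, le_antisymm ?_ ?_⟩
    · by_contra h
      exact hn ((le_ord_iff hne).1 (by omega))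
    · rw [le_ord_iff hne, h2]
      exact add_mem ((le_ord_iff hg0).1 hg1.ge)
        (Ideal.pow_le_pow_right (Nat.le_succ _) hmem)
  refine ⟨hP0, hgb.1, hgb.2, h', R, hh'0, hh', ?_, hσ₀⟩
  rw [hord, ord_pow hgb.1, hgb.2, hh', ← hW]
  ring

end Approx

section Numeric

variable {ι : Type*} (U : Finset ι) (i : ι → ℕ)

/-- The function `R ↦ R + ∑ min R (N iτ)` misses the value `N(∑ iτ + max iτ) - 1`. -/
theorem no_solution {imax : ℕ} (hmem : ∃ τ ∈ U, i τ = imax) (hle : ∀ τ ∈ U, i τ ≤ imax)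
    (himax : 0 < imax) {N : ℕ} (hN : 2 ≤ N) {R : ℕ}
    (hR : R + ∑ τ ∈ U, min R (N * i τ) + 1 = N * (∑ τ ∈ U, i τ + imax)) : False := by
  classical
  have h1 : R < N * imax := by
    by_contra h
    push Not at h
    have : ∑ τ ∈ U, min R (N * i τ) = N * ∑ τ ∈ U, i τ := by
      rw [Finset.mul_sum]
      exact Finset.sum_congr rfl fun τ hτ => min_eq_right ((Nat.mul_le_mul_left N (hle τ hτ)).trans h)
    rw [this, Nat.mul_add] at hR
    omega
  have h2 : N * (imax - 1) < R := by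
    by_contra h
    push Not at h
    have : ∑ τ ∈ U, min R (N * i τ) ≤ N * ∑ τ ∈ U, i τ := by
      rw [Finset.mul_sum]
      exact Finset.sum_le_sum fun τ _ => min_le_right _ _
    have : N * imax = N * (imax - 1) + N := by
      obtain ⟨k, rfl⟩ : ∃ k, imax = k + 1 := ⟨imax - 1, by omega⟩
      simp [Nat.mul_add]
    rw [Nat.mul_add] at hR
    omega
  set q := (U.filter fun τ => i τ = imax).card with hq
  have h3 : ∀ τ ∈ U, min R (N * i τ) + (if i τ = imax then N * imax - R else 0) = N * i τ := by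
    intro τ hτ
    split_ifs with h
    · rw [h, min_eq_left h1.le]; omega
    · have hlt : i τ ≤ imax - 1 := by have := hle τ hτ; omega
      rw [min_eq_right ((Nat.mul_le_mul_left N hlt).trans h2.le), add_zero]
  have h4 : ∑ τ ∈ U, min R (N * i τ) + q * (N * imax - R) = N * ∑ τ ∈ U, i τ := by
    rw [Finset.mul_sum, ← Finset.sum_congr rfl h3, Finset.sum_add_distrib, ← Finset.sum_filter,
      Finset.sum_const, smul_eq_mul]
  have hq1 : 1 ≤ q := by
    obtain ⟨τ, hτ, he⟩ := hmem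
    exact Finset.card_pos.2 ⟨τ, Finset.mem_filter.2 ⟨hτ, he⟩⟩
  obtain ⟨D, hD⟩ : ∃ D, N * imax = R + D := ⟨N * imax - R, by omega⟩
  rw [Nat.mul_add, ← h4, show N * imax - R = D by omega, hD] at hR
  have h5 : D ≤ q * D := Nat.le_mul_of_pos_left D hq1
  omega

end Numeric

end FontaineLib
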