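import Groth.Agent.FontaineLib.Ramif
import Mathlib.RingTheory.DedekindDomain.Different
import Mathlib.FieldTheory.Galois.Basic

/-! The Galois action on a ring of integers and the different. -/

set_option linter.unusedSectionVars false

universe u

open IsLocalRing IsDiscreteValuationRing Polynomial

local notation "𝔪" => IsLocalRing.maximalIdeal

namespace FontaineLib

theorem span_eq_pow_ord {T : Type u} [CommRing T] [IsDomain T] [IsDiscreteValuationRing T] {x : T}
    (hx : x ≠ 0) : Ideal.span {x} = 𝔪 T ^ ord x := by
  refine le_antisymm (by rw [Ideal.span_singleton_le_iff_mem, ← le_ord_iff hx]) fun z hz => ?_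
  rw [Ideal.mem_span_singleton]
  rcases eq_or_ne z 0 with rfl | h
  · exact dvd_zero _
  · exact dvd_of_ord_le hx h ((le_ord_iff h).2 hz)

theorem ord_eq_of_span {T : Type u} [CommRing T] [IsDomain T] [IsDiscreteValuationRing T] {x : T}
    {n : ℕ} (hx : x ≠ 0) (h : Ideal.span {x} = 𝔪 T ^ n) : ord x = n := by
  rw [span_eq_pow_ord hx] at h
  refine le_antisymm ?_ ?_ <;> by_contra hlt <;> push Not at hlt
  · exact absurd h (Ideal.pow_right_strictAnti _ (IsDiscreteValuationRing.not_a_field T)
      (IsLocalRing.maximalIdeal.isMaximal T).ne_top hlt).ne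
  · exact absurd h (Ideal.pow_right_strictAnti _ (IsDiscreteValuationRing.not_a_field T)
      (IsLocalRing.maximalIdeal.isMaximal T).ne_top hlt).ne'

theorem ord_algEquiv {O S : Type u} [CommRing O] [CommRing S] [IsDomain S] [IsDiscreteValuationRing S]
    [Algebra O S] (σ : S ≃ₐ[O] S) (x : S) : ord (σ x) = ord x := by
  rcases eq_or_ne x 0 with rfl | hx
  · simp
  obtain ⟨π, hπ⟩ := exists_irreducible S
  have h1 : ord (σ π) = 1 := ord_irreducible ((MulEquiv.irreducible_iff σ.toMulEquiv).2 hπ)
  have := ord_map σ.toAlgHom.toRingHom σ.injective hπ hx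
  change ord (σ x) = ord x * ord (σ π) at this
  rw [this, h1, mul_one]

variable {O : Type u} [CommRing O] [IsDomain O] [IsDiscreteValuationRing O]
  [IsAdicComplete (𝔪 O) O] [CharZero O]
  {L : Type u} [Field L] [Algebra (FractionRing O) L] [Algebra O L] [IsScalarTower O (FractionRing O) L]
  [FiniteDimensional (FractionRing O) L] [IsGalois (FractionRing O) L]

/-- The action of a Galois automorphism on the ring of integers. -/
noncomputable def galInt (σ : Gal(L/FractionRing O)) : integralClosure O L ≃ₐ[O] integralClosure O L :=
  AlgEquiv.mapIntegralClosure (σ.restrictScalars O)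

theorem coe_galInt (σ : Gal(L/FractionRing O)) (x : integralClosure O L) :
    (galInt σ x : L) = σ (x : L) := rfl

theorem galInt_one (x : integralClosure O L) : galInt (1 : Gal(L/FractionRing O)) x = x := rfl

theorem galInt_mul (σ τ : Gal(L/FractionRing O)) (x : integralClosure O L) :
    galInt (σ * τ) x = galInt σ (galInt τ x) := rfl

variable {α : integralClosure O L} (hadj : Algebra.adjoin O {α} = ⊤)

include hadj in
theorem adjoin_eq_top' : Algebra.adjoin (FractionRing O) {(α : L)} = ⊤ := by
  haveI := IsIntegralClosure.isFractionRing_of_finite_extension O (FractionRing O) L (integralClosure O L)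
  have hint : IsAlgebraic (FractionRing O) (α : L) := Algebra.IsAlgebraic.isAlgebraic _
  rw [← IntermediateField.adjoin_simple_toSubalgebra_of_isAlgebraic hint, eq_top_iff]
  intro z _
  obtain ⟨s, t, -, rfl⟩ := IsFractionRing.div_surjective (integralClosure O L) z
  have h : ∀ w : integralClosure O L, (w : L) ∈ IntermediateField.adjoin (FractionRing O) {(α : L)} := by
    intro w
    have hw : w ∈ Algebra.adjoin O {α} := hadj ▸ trivial
    induction hw using Algebra.adjoin_induction with
    | mem x hx => rw [Set.mem_singleton_iff.1 hx]; exact IntermediateField.mem_adjoin_simple_self _ _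
    | algebraMap c =>
      rw [show ((algebraMap O (integralClosure O L) c : integralClosure O L) : L) =
        algebraMap (FractionRing O) L (algebraMap O (FractionRing O) c) from
          (IsScalarTower.algebraMap_apply O (FractionRing O) L c)]
      exact IntermediateField.algebraMap_mem _ _
    | add x y _ _ hx hy => exact add_mem hx hy
    | mul x y _ _ hx hy => exact mul_mem hx hy
  show _ ∈ IntermediateField.adjoin (FractionRing O) {(α : L)}
  exact div_mem (h s) (h t)

include hadj in
theorem galInt_injective : Function.Injective fun σ : Gal(L/FractionRing O) => galInt σ α := by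
  intro σ τ h
  refine AlgEquiv.ext fun z => ?_
  have hz : z ∈ Algebra.adjoin (FractionRing O) {(α : L)} := adjoin_eq_top' hadj ▸ trivial
  rw [Algebra.adjoin_singleton_eq_range_aeval] at hz
  obtain ⟨q, rfl⟩ := hz
  have h' : σ (α : L) = τ (α : L) := congrArg Subtype.val h
  change (σ : L →ₐ[FractionRing O] L) (aeval (α : L) q) = (τ : L →ₐ[FractionRing O] L) (aeval (α : L) q)
  rw [← Polynomial.aeval_algHom_apply, ← Polynomial.aeval_algHom_apply]
  exact congrArg (fun w => aeval w q) h'

include hadj in
/-- The minimal polynomial splits into the conjugates. -/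
theorem minpoly_map_eq :
    (minpoly O α).map (algebraMap O (integralClosure O L)) =
      ∏ σ : Gal(L/FractionRing O), (X - C (galInt σ α)) := by
  classical
  haveI := integers_isTorsionFree O L
  haveI := IsIntegralClosure.isFractionRing_of_finite_extension O (FractionRing O) L (integralClosure O L)
  set f := (minpoly O α).map (algebraMap O (integralClosure O L))
  set q := ∏ σ : Gal(L/FractionRing O), (X - C (galInt σ α))
  have hint : IsIntegral O α := IsIntegralClosure.isIntegral O L α
  have hfm : f.Monic := (minpoly.monic hint).map _
  have hqm : q.Monic := monic_prod_of_monic _ _ fun σ _ => monic_X_sub_C _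
  have hqd : q.natDegree = Fintype.card (Gal(L/FractionRing O)) := by
    rw [natDegree_prod_of_monic _ _ fun σ _ => monic_X_sub_C _]; simp
  have hfd : f.natDegree = Fintype.card (Gal(L/FractionRing O)) := by
    have h1 : IntermediateField.adjoin (FractionRing O) {(α : L)} = ⊤ := by
      refine eq_top_iff.2 fun z _ => IntermediateField.algebra_adjoin_le_adjoin _ _ ?_
      rw [adjoin_eq_top' hadj]; trivial
    rw [(minpoly.monic hint).natDegree_map, ← Nat.card_eq_fintype_card, IsGalois.card_aut_eq_finrank,
      ← IntermediateField.finrank_top' (F := FractionRing O) (E := L), ← h1,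
      IntermediateField.adjoin.finrank (IsIntegral.of_finite (FractionRing O) (α : L))]
    rw [show minpoly (FractionRing O) (α : L) = (minpoly O α).map (algebraMap O (FractionRing O)) from
      minpoly.isIntegrallyClosed_eq_field_fractions (FractionRing O) L hint,
      (minpoly.monic hint).natDegree_map]
  rw [← sub_eq_zero]
  have hroot : ∀ σ : Gal(L/FractionRing O), (f - q).eval (galInt σ α) = 0 := by
    intro σ
    rw [eval_sub, eval_map_algebraMap, Polynomial.aeval_algEquiv (galInt σ) α, AlgHom.comp_apply, minpoly.aeval, map_zero, zero_sub, neg_eq_zero,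
      eval_prod]
    exact Finset.prod_eq_zero (Finset.mem_univ σ) (by simp)
  by_contra hne
  refine hne (eq_zero_of_natDegree_lt_card_of_eval_eq_zero _ (galInt_injective hadj) hroot ?_)
  have hdeg : (f - q).degree < f.degree := degree_sub_lt
    (by rw [degree_eq_natDegree hfm.ne_zero, degree_eq_natDegree hqm.ne_zero, hfd, hqd]) hfm.ne_zero
    (by rw [hfm, hqm])
  rw [← hfd]
  exact natDegree_lt_natDegree hne hdeg

include hadj in
/-- The different of a monogenic ring of integers. -/
theorem differentIdeal_eq [Module.IsTorsionFree O (integralClosure O L)] [DecidableEq (Gal(L/FractionRing O))] :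
    differentIdeal O (integralClosure O L) =
      Ideal.span {∏ τ ∈ Finset.univ.erase (1 : Gal(L/FractionRing O)), (α - galInt τ α)} := by
  haveI := integers_finite O L
  haveI : IsDedekindDomain (integralClosure O L) :=
    IsIntegralClosure.isDedekindDomain O (FractionRing O) L (integralClosure O L)
  have h := conductor_mul_differentIdeal O (FractionRing O) L α
    (show Algebra.adjoin (FractionRing O) {algebraMap (integralClosure O L) L α} = ⊤ from adjoin_eq_top' hadj)
  rw [conductor_eq_top_of_adjoin_eq_top hadj, Ideal.top_mul] at h
  rw [h, ← eval_map_algebraMap, ← derivative_map, minpoly_map_eq hadj,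
    ← Finset.mul_prod_erase _ _ (Finset.mem_univ (1 : Gal(L/FractionRing O))), galInt_one]
  simp [derivative_mul, eval_prod]

end FontaineLib
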