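import Groth.Agent.FontaineLib.Lift
import Groth.Agent.FontaineLib.Galois
import Mathlib.FieldTheory.IntermediateField.Adjoin.Basic
import Mathlib.FieldTheory.IsAlgClosed.AlgebraicClosure
import Mathlib.FieldTheory.Normal.Closure
import Mathlib.RingTheory.Unramified.Basic

/-! Points of a finite algebra, the field they generate, and the approximating field. -/

set_option linter.unusedSectionVars false

universe u

open IsLocalRing IsDiscreteValuationRing Polynomial
open W4c1noabschz1 (IsDPTopNilpotent)

local notation "𝔪" => IsLocalRing.maximalIdeal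

namespace FontaineLib

variable {O : Type u} [CommRing O] [IsDomain O] [IsDiscreteValuationRing O]
  [IsAdicComplete (𝔪 O) O] [CharZero O]

local notation "K" => FractionRing O
local notation "Ω" => AlgebraicClosure (FractionRing O)

theorem isSeparable_fractionRing (E : Type u) [Field E] [Algebra K E] [FiniteDimensional K E] :
    Algebra.IsSeparable K E :=
  haveI : CharZero K := charZero_of_injective_algebraMap (IsFractionRing.injective O K)
  inferInstance

variable {A : Type u} [CommRing A] [Algebra O A]

theorem finite_points [Module.Finite O A] : Finite (A →ₐ[O] Ω) := by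
  classical
  obtain ⟨s, hs⟩ := (Algebra.FiniteType.out : (⊤ : Subalgebra O A).FG)
  choose q hq hq0 using fun x : A => Algebra.IsIntegral.isIntegral (R := O) x
  let F : (A →ₐ[O] Ω) → ((x : s) → ((q x.1).map (algebraMap O Ω)).roots.toFinset) := fun φ x =>
    ⟨φ x.1, by
      rw [Multiset.mem_toFinset, mem_roots ((hq x.1).map _).ne_zero, IsRoot, eval_map_algebraMap,
        aeval_algHom_apply]
      rw [show aeval x.1 (q x.1) = 0 from hq0 x.1, map_zero]⟩
  refine Finite.of_injective F fun φ φ' h => AlgHom.ext_of_adjoin_eq_top hs fun x hx => ?_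
  exact congrArg Subtype.val (congrFun h ⟨x, hx⟩)

/-- A point with values in `E`, as a map to the integers of `E`. -/
noncomputable def pointToInt [Module.Finite O A] (E : IntermediateField K Ω) (φ : A →ₐ[O] Ω)
    (h : ∀ z, φ z ∈ E) : A →ₐ[O] integralClosure O E where
  toFun z := ⟨⟨φ z, h z⟩, (isIntegral_algHom_iff (E.val.restrictScalars O) Subtype.val_injective).1
    ((Algebra.IsIntegral.isIntegral (R := O) z).map φ)⟩
  map_one' := Subtype.ext (Subtype.ext (map_one φ))
  map_mul' x y := Subtype.ext (Subtype.ext (map_mul φ x y))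
  map_zero' := Subtype.ext (Subtype.ext (map_zero φ))
  map_add' x y := Subtype.ext (Subtype.ext (map_add φ x y))
  commutes' c := Subtype.ext (Subtype.ext ((φ.commutes c).trans rfl))

/-- The inclusion of the integers of `E` in the algebraic closure. -/
noncomputable def inclInt (E : IntermediateField K Ω) : integralClosure O E →ₐ[O] Ω :=
  (E.val.restrictScalars O).comp (integralClosure O E).val

theorem inclInt_injective (E : IntermediateField K Ω) : Function.Injective (inclInt (O := O) E) :=
  fun _ _ h => Subtype.ext (Subtype.ext h)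

theorem inclInt_mem (E : IntermediateField K Ω) (x : integralClosure O E) : inclInt E x ∈ E :=
  (x : E).2

theorem inclInt_pointToInt [Module.Finite O A] (E : IntermediateField K Ω) (φ : A →ₐ[O] Ω)
    (h : ∀ z, φ z ∈ E) : (inclInt E).comp (pointToInt E φ h) = φ := AlgHom.ext fun _ => rfl

/-- Fontaine's lifting property: a map to `S / a I` determines a unique lift of its reduction modulo `I`,
for `I` a power of the maximal ideal with divided powers. -/
def LiftsUniquely (A : Type u) [CommRing A] [Algebra O A] (a : O) (p : ℕ) : Prop :=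
  ∀ (T : Type u) [CommRing T] [IsDomain T] [IsDiscreteValuationRing T] [Algebra O T] [Module.Finite O T]
    [Module.Flat O T] [CharZero T], (p : T) ∈ 𝔪 T → Function.Injective (algebraMap O T) →
    ∀ μ, ord (p : T) < (p - 1) * μ →
      Function.Injective (fun χ : A →ₐ[O] T => (Ideal.Quotient.mkₐ O (𝔪 T ^ μ)).comp χ) ∧
      ∀ ψ : A →ₐ[O] T ⧸ Ideal.span {algebraMap O T a} * 𝔪 T ^ μ, ∃ χ : A →ₐ[O] T,
        ∀ z, Ideal.Quotient.mk (𝔪 T ^ μ) (χ z) =
          Ideal.Quotient.factor (Ideal.mul_le_right (I := Ideal.span {algebraMap O T a}) (J := 𝔪 T ^ μ)) (ψ z)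

theorem liftsUniquely_of_goodPres [Module.Finite O A] {a : O} (ha : a ≠ 0) {r : ℕ} {y : Fin r → A}
    (hP : GoodPres a r y) (p : ℕ) [Fact p.Prime] : LiftsUniquely A a p := by
  intro T _ _ _ _ _ _ _ hpm _ μ hμ
  obtain ⟨hI, htn⟩ := exists_dividedPowers p hpm hμ
  exact ⟨injective_lift hP hI ha htn, fun ψ => exists_lift hP hI htn ψ⟩

section Field

variable {L : IntermediateField (FractionRing O) (AlgebraicClosure (FractionRing O))}
  (hL : L = IntermediateField.adjoin (FractionRing O)
    (⋃ φ : A →ₐ[O] AlgebraicClosure (FractionRing O), Set.range φ))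

include hL in
theorem mem_L (φ : A →ₐ[O] Ω) (z : A) : φ z ∈ L :=
  hL ▸ IntermediateField.subset_adjoin K _ (Set.mem_iUnion.2 ⟨φ, z, rfl⟩)

include hL in
theorem isGalois_L [FiniteDimensional K L] : IsGalois K L := by
  haveI := isSeparable_fractionRing (O := O) L
  haveI : Normal K L := by
    rw [IntermediateField.normal_iff_forall_map_le]
    intro σ
    rw [hL, IntermediateField.adjoin_map]
    refine IntermediateField.adjoin.mono _ _ _ ?_
    rintro _ ⟨x, hx, rfl⟩
    obtain ⟨φ, z, rfl⟩ := Set.mem_iUnion.1 hx
    exact Set.mem_iUnion.2 ⟨(σ.restrictScalars O).comp φ, z, rfl⟩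
  exact ⟨⟩

include hL in
/-- If the points are unramified, an automorphism congruent to the identity is the identity. -/
theorem eq_one_of_congr [Module.Finite O A] [Algebra.FormallyUnramified O A] [FiniteDimensional K L]
    [IsDiscreteValuationRing (integralClosure O L)]
    (σ : Gal(L/K)) (hσ : ∀ x : integralClosure O L, galInt σ x - x ∈ 𝔪 (integralClosure O L)) :
    σ = 1 := by
  haveI := isGalois_L hL
  have h : ∀ (φ : A →ₐ[O] Ω) (z : A), σ ⟨φ z, mem_L hL φ z⟩ = ⟨φ z, mem_L hL φ z⟩ := by
    intro φ z
    have e : ((galInt σ).toAlgHom.comp (pointToInt L φ (mem_L hL φ))) = pointToInt L φ (mem_L hL φ) :=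
      Algebra.FormallyUnramified.ext_of_iInf (𝔪 (integralClosure O L))
        (Ideal.iInf_pow_eq_bot_of_isLocalRing _ (IsLocalRing.maximalIdeal.isMaximal _).ne_top)
        (fun x => Ideal.Quotient.eq.2 (hσ _))
    exact congrArg Subtype.val (AlgHom.congr_fun e z)
  have h2 : L.val.comp (σ : L →ₐ[K] L) = L.val := by
    refine IntermediateField.algHom_ext_of_eq_adjoin _ hL fun x hx => ?_
    obtain ⟨φ, z, rfl⟩ := Set.mem_iUnion.1 hx
    exact congrArg Subtype.val (h φ z)
  exact AlgEquiv.ext fun x => Subtype.ext (AlgHom.congr_fun h2 x)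

include hL in
/-- If the points with values in `L` are separated in `E` then `L ⊆ E`. -/
theorem le_of_approx [Module.Finite O A] {a : O} (E : IntermediateField K Ω)
    {I : Ideal (integralClosure O E)} {J : Ideal (integralClosure O L)}
    (hlift : ∀ ψ : A →ₐ[O] integralClosure O E ⧸ Ideal.span {algebraMap O (integralClosure O E) a} * I,
      ∃ χ : A →ₐ[O] integralClosure O E, ∀ z, Ideal.Quotient.mk I (χ z) = Ideal.Quotient.factor
        (Ideal.mul_le_right (I := Ideal.span {algebraMap O (integralClosure O E) a}) (J := I)) (ψ z))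
    (hinjJ : Function.Injective
      (fun χ : A →ₐ[O] integralClosure O L => (Ideal.Quotient.mkₐ O J).comp χ))
    (ψ : integralClosure O L →ₐ[O]
      integralClosure O E ⧸ Ideal.span {algebraMap O (integralClosure O E) a} * I)
    (hker : ∀ z, Ideal.Quotient.factor (Ideal.mul_le_right
      (I := Ideal.span {algebraMap O (integralClosure O E) a}) (J := I)) (ψ z) = 0 → z ∈ J) :
    L ≤ E := by
  haveI := finite_points (O := O) (A := A)
  choose χ hχ using fun φ : A →ₐ[O] Ω =>
    hlift (ψ.comp (pointToInt L φ (mem_L hL φ)))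
  have hinj : Function.Injective fun φ => (inclInt E).comp (χ φ) := by
    intro φ φ' h
    have h1 : χ φ = χ φ' := AlgHom.ext fun z => inclInt_injective E (AlgHom.congr_fun h z)
    have h2 : pointToInt L φ (mem_L hL φ) = pointToInt L φ' (mem_L hL φ') := by
      refine hinjJ (AlgHom.ext fun z => Ideal.Quotient.eq.2 (hker _ ?_))
      have e1 := hχ φ z
      have e2 := hχ φ' z
      rw [h1] at e1
      rw [map_sub, map_sub, sub_eq_zero]
      exact e1.symm.trans e2
    rw [← inclInt_pointToInt L φ (mem_L hL φ), h2, inclInt_pointToInt]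
  have hsur := Finite.injective_iff_surjective.1 hinj
  rw [hL, IntermediateField.adjoin_le_iff]
  intro x hx
  obtain ⟨φ', z, rfl⟩ := Set.mem_iUnion.1 hx
  obtain ⟨φ, rfl⟩ := hsur φ'
  exact inclInt_mem E (χ φ z)

end Field

section Construct

theorem exists_root (f g : O[X]) (hf : f.Monic) (hf0 : 0 < f.natDegree) {N : ℕ} (hN : 0 < N) (π : O)
    (s k : ℕ) :
    ∃ (E : IntermediateField K Ω) (_ : FiniteDimensional K E) (ϖ β q : integralClosure O E),
      Module.finrank K E ≤ N * f.natDegree ∧ ϖ ^ N = algebraMap O _ π ∧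
      aeval β f * (1 + ϖ ^ s * q) = ϖ ^ s * aeval β g ^ k := by
  classical
  obtain ⟨w, hw⟩ := IsAlgClosed.exists_pow_nat_eq (algebraMap O Ω π) hN
  set G := g ^ k %ₘ f with hG
  have hwint : IsIntegral O w := ⟨X ^ N - C π, monic_X_pow_sub_C π hN.ne', by
    simp [hw]⟩
  let K₁ := IntermediateField.adjoin K {w}
  haveI : IsScalarTower O K₁ Ω := IsScalarTower.of_algebraMap_eq fun x => rfl
  let w₁ : K₁ := ⟨w, IntermediateField.mem_adjoin_simple_self K w⟩
  let P : K₁[X] := f.map (algebraMap O K₁) - C (w₁ ^ s) * G.map (algebraMap O K₁)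
  have hdeg : (C (w₁ ^ s) * G.map (algebraMap O K₁)).degree < (f.map (algebraMap O K₁)).degree := by
    refine (degree_mul_le _ _).trans_lt ?_
    refine lt_of_le_of_lt (add_le_add degree_C_le degree_map_le) ?_
    rw [zero_add, hf.degree_map]
    exact degree_modByMonic_lt _ hf
  have hPm : P.Monic := Monic.sub_of_left (hf.map _) hdeg
  have hPd : P.natDegree = f.natDegree := by
    rw [natDegree_eq_of_degree_eq (degree_sub_eq_left_of_degree_lt hdeg), hf.natDegree_map]
  obtain ⟨b, hb⟩ := IsAlgClosed.exists_aeval_eq_zero Ω P (fun h => by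
    rw [degree_eq_natDegree hPm.ne_zero, hPd] at h
    exact hf0.ne' (by exact_mod_cast h))
  have hb' : aeval b f = w ^ s * aeval b G := by
    have : aeval b P = aeval b f - w ^ s * aeval b G := by
      simp [P, aeval_map_algebraMap, w₁]
    rwa [this, sub_eq_zero] at hb
  have hbint : IsIntegral O b := by
    let B := integralClosure O Ω
    let wB : B := ⟨w, hwint⟩
    haveI : Algebra.IsIntegral O B := IsIntegralClosure.isIntegral_algebra O Ω
    refine isIntegral_trans (A := B) b ⟨f.map (algebraMap O B) - C (wB ^ s) * G.map (algebraMap O B), ?_, ?_⟩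
    · refine Monic.sub_of_left (hf.map _) ?_
      refine (degree_mul_le _ _).trans_lt (lt_of_le_of_lt (add_le_add degree_C_le degree_map_le) ?_)
      rw [zero_add, hf.degree_map]
      exact degree_modByMonic_lt _ hf
    · simp [← aeval_def, aeval_map_algebraMap, hb', wB]
  let E : IntermediateField K Ω := (IntermediateField.adjoin K₁ {b}).restrictScalars K
  have hwI : IsIntegral K w := hwint.tower_top
  haveI : FiniteDimensional K K₁ := IntermediateField.adjoin.finiteDimensional hwI
  have hbI : IsIntegral K₁ b := hbint.tower_top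
  haveI : FiniteDimensional K₁ (IntermediateField.adjoin K₁ {b}) := IntermediateField.adjoin.finiteDimensional hbI
  haveI hfd : FiniteDimensional K E := Module.Finite.trans (R := K) K₁ (IntermediateField.adjoin K₁ {b})
  have hwE : w ∈ E := (IntermediateField.adjoin K₁ {b}).algebraMap_mem w₁
  have hbE : b ∈ E := IntermediateField.mem_adjoin_simple_self K₁ b
  let we : integralClosure O E := ⟨⟨w, hwE⟩,
    (isIntegral_algHom_iff (E.val.restrictScalars O) Subtype.val_injective).1 hwint⟩
  let be : integralClosure O E := ⟨⟨b, hbE⟩,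
    (isIntegral_algHom_iff (E.val.restrictScalars O) Subtype.val_injective).1 hbint⟩
  refine ⟨E, hfd, we, be, aeval be (g ^ k /ₘ f), ?_, inclInt_injective E ?_, inclInt_injective E ?_⟩
  · show Module.finrank K (IntermediateField.adjoin K₁ {b}) ≤ _
    haveI : Module.Free K₁ (IntermediateField.adjoin K₁ {b}) := Module.Free.of_divisionRing _ _
    rw [← Module.finrank_mul_finrank K K₁ (IntermediateField.adjoin K₁ {b})]
    refine Nat.mul_le_mul ?_ ?_
    · rw [IntermediateField.adjoin.finrank hwI]
      have : minpoly K w ∣ X ^ N - C (algebraMap O K π) := minpoly.dvd K w (by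
        simp [hw, ← IsScalarTower.algebraMap_apply])
      exact (natDegree_le_of_dvd this (X_pow_sub_C_ne_zero hN _)).trans natDegree_X_pow_sub_C.le
    · rw [IntermediateField.adjoin.finrank hbI, ← hPd]
      exact natDegree_le_of_dvd (minpoly.dvd K₁ b hb) hPm.ne_zero
  · rw [map_pow, AlgHom.commutes]
    exact hw
  · have h1 : ∀ p : O[X], inclInt E (aeval be p) = aeval b p := fun p =>
      (aeval_algHom_apply (inclInt E) be p).symm
    simp only [map_mul, map_add, map_pow, map_one, h1]
    show aeval b f * (1 + w ^ s * aeval b (g ^ k /ₘ f)) = w ^ s * aeval b g ^ k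
    rw [← map_pow (aeval b) g k]
    conv_rhs => rw [← modByMonic_add_div (g ^ k) f]
    rw [map_add, map_mul, ← hG]
    linear_combination hb'

end Construct

end FontaineLib
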