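import Groth.Agent.FontaineLib.Lift
import Groth.Agent.CohenLib.PSHom
import Mathlib.RingTheory.Kaehler.Basic
import Mathlib.RingTheory.OrzechProperty
import Mathlib.LinearAlgebra.Matrix.Adjugate
import Mathlib.RingTheory.MvPowerSeries.Inverse
import Mathlib.RingTheory.MvPolynomial.Ideal
import Mathlib.RingTheory.LocalRing.Quotient

/-! A presentation with `r` variables of a finite complete intersection whose differentials are free
over `A / aA`. -/

universe u v w

open MvPolynomial (pderiv aeval X C idealOfVars)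
open IsLocalRing KaehlerDifferential

namespace FontaineLib

variable {O : Type v} [CommRing O]

theorem deriv_pow_mem {n : ℕ} (Ix : Ideal (MvPolynomial (Fin n) O)) (k : Fin n) (N : ℕ) :
    ∀ p ∈ Ix ^ (N + 1), pderiv k p ∈ Ix ^ N := by
  induction N with
  | zero => simp
  | succ N ih =>
    intro p hp
    rw [pow_succ] at hp
    refine Submodule.mul_induction_on hp ?_ fun _ _ h h' => by rw [map_add]; exact add_mem h h'
    intro u hu v hv
    rw [MvPolynomial.pderiv_mul]
    refine add_mem ?_ (Ideal.mul_mem_right _ _ hu)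
    rw [pow_succ]
    exact Ideal.mul_mem_mul (ih u hu) hv

theorem idealOfVars_eq_span (n : ℕ) :
    idealOfVars (Fin n) O = Ideal.span (Set.range X) := rfl

theorem mem_pow_of_coe_mem {n : ℕ} {N : ℕ} {H : MvPolynomial (Fin n) O}
    (h : algebraMap (MvPolynomial (Fin n) O) (MvPowerSeries (Fin n) O) H ∈
      CohenLib.varsIdeal O n ^ N) : H ∈ idealOfVars (Fin n) O ^ N := by
  have e : CohenLib.varsIdeal O n = (idealOfVars (Fin n) O).map
      (algebraMap (MvPolynomial (Fin n) O) (MvPowerSeries (Fin n) O)) := by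
    rw [idealOfVars_eq_span, Ideal.map_span, CohenLib.varsIdeal, ← Set.range_comp]
    congr 2
    funext i
    show MvPowerSeries.X i = algebraMap _ _ (MvPolynomial.X i)
    rw [MvPowerSeries.algebraMap_apply']; simp
  rw [e, ← Ideal.map_pow] at h
  have h1 := Ideal.mem_map_of_mem (MvPowerSeries.truncTotalAlgHom (Fin n) O N).toRingHom h
  have e2 : (MvPowerSeries.truncTotalAlgHom (Fin n) O N).toRingHom.comp (algebraMap _ _) =
      algebraMap (MvPolynomial (Fin n) O) _ := (MvPowerSeries.truncTotalAlgHom (Fin n) O N).comp_algebraMap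
  rw [Ideal.map_map, e2,
    Ideal.Quotient.algebraMap_eq, Ideal.map_quotient_self, Ideal.mem_bot] at h1
  rw [← Ideal.Quotient.eq_zero_iff_mem, ← h1]
  exact ((MvPowerSeries.truncTotalAlgHom (Fin n) O N).commutes H).symm

theorem aeval_translate_sub_mem {r : ℕ} (L : Ideal (MvPolynomial (Fin r) O))
    (w : Fin r → MvPolynomial (Fin r) O) (hw : ∀ i, w i ∈ L) (g : MvPolynomial (Fin r) O) :
    aeval (fun i => X i + w i) g - g - ∑ i, pderiv i g * w i ∈ L * L := by
  induction g using MvPolynomial.induction_on with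
  | C c => simp
  | add p q hp hq =>
    convert add_mem hp hq using 1
    simp only [map_add, add_mul, Finset.sum_add_distrib]
    ring
  | mul_X g j hg =>
    have h1 : aeval (fun i => X i + w i) g - g ∈ L := by
      rw [show aeval (fun i => X i + w i) g - g = (aeval (fun i => X i + w i) g - g -
        ∑ i, pderiv i g * w i) + ∑ i, pderiv i g * w i by ring]
      exact add_mem (Ideal.mul_le_left hg) (sum_mem fun i _ => Ideal.mul_mem_left _ _ (hw i))
    convert add_mem (Ideal.mul_mem_right (X j) _ hg) (Ideal.mul_mem_mul h1 (hw j)) using 1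
    simp only [map_mul, MvPolynomial.aeval_X, MvPolynomial.pderiv_mul, add_mul, Finset.sum_add_distrib,
      sub_mul, Finset.sum_mul]
    rw [Finset.sum_eq_single (f := fun x => g * pderiv x (X j) * w x) j
      (fun i _ hij => by rw [MvPolynomial.pderiv_X_of_ne (Ne.symm hij)]; simp)
      (fun h => absurd (Finset.mem_univ j) h), MvPolynomial.pderiv_X_self]
    simp only [mul_one, mul_right_comm _ (X j)]
    ring

set_option maxHeartbeats 1000000 in
/-- Existence of a good presentation. -/
theorem exists_goodPres [IsDomain O] [IsLocalRing O] [IsNoetherianRing O] {m : ℕ}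
    (f : Fin m → MvPowerSeries (Fin m) O) {A : Type w} [CommRing A] [Algebra O A]
    (e : (MvPowerSeries (Fin m) O ⧸ Ideal.span (Set.range f)) ≃ₐ[O] A)
    [Module.Finite O A] [Module.Flat O A] (a : O) (ha : a ≠ 0) (r : ℕ)
    (φ : KaehlerDifferential O A ≃ₗ[A] (Fin r → A ⧸ Ideal.span {algebraMap O A a})) :
    ∃ (r' : ℕ) (y : Fin r' → A), GoodPres a r' y := by
  classical
  rcases subsingleton_or_nontrivial A with hA | hA
  · refine ⟨0, Fin.elim0, ⟨fun z => ⟨0, Subsingleton.elim _ _⟩, fun g _ i => i.elim0, fun i => i.elim0,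
      fun g _ _ N => Ideal.mem_sup_left ?_, fun i => i.elim0⟩⟩
    rw [show RingHom.ker (aeval (R := O) (Fin.elim0 : Fin 0 → A)) = ⊤ from
      eq_top_iff.2 fun z _ => RingHom.mem_ker.2 (Subsingleton.elim _ _), Ideal.top_mul]
    trivial
  set π : MvPowerSeries (Fin m) O →ₐ[O] A := e.toAlgHom.comp (Ideal.Quotient.mkₐ O _) with hπdef
  have hπ : Function.Surjective π := e.surjective.comp Ideal.Quotient.mk_surjective
  haveI : IsLocalRing A := IsLocalRing.of_surjective' π.toRingHom hπ
  haveI : IsNoetherianRing A := IsNoetherianRing.of_finite O A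
  set x : Fin m → A := fun i => π (MvPowerSeries.X i) with hxdef
  let ι₀ := algebraMap (MvPolynomial (Fin m) O) (MvPowerSeries (Fin m) O)
  have hπC : ∀ c : O, π (MvPowerSeries.C c) = algebraMap O A c := fun c => by
    rw [← π.commutes c]; rfl
  have hev : ∀ F : (MvPolynomial (Fin m) O), π (ι₀ F) = aeval x F := by
    intro F
    have : π.toRingHom.comp ι₀ = (aeval x : (MvPolynomial (Fin m) O) →ₐ[O] A).toRingHom := by
      refine MvPolynomial.ringHom_ext (fun c => ?_) fun i => ?_
      · simp [ι₀, MvPowerSeries.algebraMap_apply', hπC]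
      · simp [ι₀, MvPowerSeries.algebraMap_apply', hxdef]
    exact RingHom.congr_fun this F
  have hπm : (maximalIdeal (MvPowerSeries (Fin m) O)).map π.toRingHom = maximalIdeal A :=
    map_maximalIdeal_of_surjective _ hπ
  have hvm : CohenLib.varsIdeal O m ≤ maximalIdeal (MvPowerSeries (Fin m) O) := by
    rw [← CohenLib.ker_constantCoeff]
    exact IsLocalRing.le_maximalIdeal (RingHom.ker_ne_top _)
  have hxm : ∀ i, x i ∈ maximalIdeal A := fun i =>
    hπm ▸ Ideal.mem_map_of_mem π.toRingHom (hvm (Ideal.subset_span ⟨i, rfl⟩))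
  have happrox : ∀ (N : ℕ) (F : MvPowerSeries (Fin m) O) (q : (MvPolynomial (Fin m) O)),
      F - ι₀ q ∈ CohenLib.varsIdeal O m ^ N → π F - aeval x q ∈ maximalIdeal A ^ N := by
    intro N F q h
    have h1 := Ideal.mem_map_of_mem π.toRingHom ((Ideal.pow_right_mono hvm N) h)
    rw [Ideal.map_pow, hπm] at h1
    have h2 : π F - π (ι₀ q) ∈ maximalIdeal A ^ N := by rw [← map_sub]; exact h1
    rwa [hev] at h2
  have hO : ∀ c : O, algebraMap O A c ∈ maximalIdeal A → c ∈ maximalIdeal O := by
    intro c hc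
    by_contra h
    rw [mem_maximalIdeal, mem_nonunits_iff, not_not] at h
    exact hc (h.map _)
  have hOm : (maximalIdeal O).map (algebraMap O A) ≤ maximalIdeal A := by
    rw [Ideal.map_le_iff_le_comap]
    intro c hc
    rw [Ideal.mem_comap, ← π.commutes c, ← hπm]
    refine Ideal.mem_map_of_mem π.toRingHom ?_
    rw [mem_maximalIdeal, mem_nonunits_iff]
    intro hu
    have := hu.map (MvPowerSeries.constantCoeff (σ := Fin m) (R := O))
    exact hc (by simpa [MvPowerSeries.algebraMap_apply] using this)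
  obtain ⟨N₀, hN₀⟩ : ∃ n, maximalIdeal A ^ n ≤ (maximalIdeal O).map (algebraMap O A) := by
    letI := Ideal.Quotient.field (maximalIdeal O)
    haveI : Module.Finite (O ⧸ maximalIdeal O) (A ⧸ (maximalIdeal O).map (algebraMap O A)) :=
      Module.Finite.of_restrictScalars_finite O _ _
    haveI : IsArtinianRing (A ⧸ (maximalIdeal O).map (algebraMap O A)) :=
      IsArtinianRing.of_finite (O ⧸ maximalIdeal O) _
    exact exists_maximalIdeal_pow_le_of_isArtinianRing_quotient _
  -- Nakayama over `O`
  have hnak : ∀ W : Submodule O A,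
      (∀ z, ∃ w ∈ W, z - w ∈ (maximalIdeal O).map (algebraMap O A)) → W = ⊤ := by
    intro W hW
    rw [eq_top_iff]
    refine Submodule.le_of_le_smul_of_le_jacobson_bot (I := maximalIdeal O) Module.Finite.fg_top
      (IsLocalRing.maximalIdeal_le_jacobson _) fun z _ => ?_
    obtain ⟨w, hw, hzw⟩ := hW z
    refine Submodule.mem_sup.2 ⟨w, hw, z - w, ?_, add_sub_cancel w z⟩
    rwa [Ideal.smul_top_eq_map, Submodule.restrictScalars_mem]
  have hxs : Function.Surjective (aeval x : (MvPolynomial (Fin m) O) →ₐ[O] A) := by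
    refine (LinearMap.range_eq_top (f := (aeval x : (MvPolynomial (Fin m) O) →ₐ[O] A).toLinearMap)).1 (hnak _ fun z => ?_)
    obtain ⟨F, rfl⟩ := hπ z
    obtain ⟨q, hq⟩ := CohenLib.exists_polynomial_sub_mem N₀ F
    exact ⟨_, ⟨q, rfl⟩, hN₀ (happrox N₀ F q hq)⟩
  have hconst : ∀ z : A, ∃ c : O, z - algebraMap O A c ∈ maximalIdeal A := by
    intro z
    obtain ⟨F, rfl⟩ := hπ z
    refine ⟨MvPowerSeries.constantCoeff F, ?_⟩
    rw [← hπC, ← map_sub, ← hπm]
    refine Ideal.mem_map_of_mem π.toRingHom (hvm ?_)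
    rw [← CohenLib.ker_constantCoeff, RingHom.mem_ker]
    simp
  choose cst hcst using hconst
  let d := KaehlerDifferential.D O A
  -- choice of `r` generators
  let ε : Fin r → (Fin r → A ⧸ Ideal.span {algebraMap O A a}) := fun i => Pi.single i 1
  have hspan : Submodule.span A (Set.range fun k => φ (d (x k))) = ⊤ := by
    rw [eq_top_iff]
    rintro v -
    obtain ⟨ω, rfl⟩ := φ.surjective v
    have hω : ω ∈ Submodule.span A (Set.range d) := by
      rw [KaehlerDifferential.span_range_derivation]; trivial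
    induction hω using Submodule.span_induction with
    | mem z hz =>
      obtain ⟨z, rfl⟩ := hz
      obtain ⟨F, rfl⟩ := hxs z
      rw [derivation_aeval d x F, map_sum]
      exact sum_mem fun k _ => by
        rw [map_smul]; exact Submodule.smul_mem _ _ (Submodule.subset_span ⟨k, rfl⟩)
    | zero => simp
    | add u v _ _ hu hv => rw [map_add]; exact add_mem hu hv
    | smul c u _ hu => rw [map_smul]; exact Submodule.smul_mem _ _ hu
  choose b hb using fun i => Submodule.mem_span_range_iff_exists_fun A |>.1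
    (show ε i ∈ Submodule.span A (Set.range fun k => φ (d (x k))) from hspan ▸ trivial)
  let c : Fin r → Fin m → O := fun i k => cst (b i k)
  let ιy : Fin r → (MvPolynomial (Fin m) O) := fun i => ∑ k, C (c i k) * X k
  set y : Fin r → A := fun i => ∑ k, algebraMap O A (c i k) * x k with hydef
  have hιy : ∀ i, aeval x (ιy i) = y i := fun i => by simp [ιy, hydef]
  have hym : ∀ i, y i ∈ maximalIdeal A := fun i =>
    sum_mem fun k _ => Ideal.mul_mem_left _ _ (hxm k)
  let Φ : (Fin r → A) →ₗ[A] (Fin r → A ⧸ Ideal.span {algebraMap O A a}) :=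
    Fintype.linearCombination A (fun i => φ (d (y i)))
  have hΦ : ∀ w, Φ w = ∑ i, w i • φ (d (y i)) := fun w => rfl
  have hε : ∀ i, φ (d (y i)) - ε i ∈ maximalIdeal A • (⊤ : Submodule A _) := by
    intro i
    have : φ (d (y i)) = ∑ k, algebraMap O A (c i k) • φ (d (x k)) := by
      rw [hydef, map_sum, map_sum]
      refine Finset.sum_congr rfl fun k _ => ?_
      rw [Derivation.leibniz, Derivation.map_algebraMap, smul_zero, add_zero, map_smul]
    rw [this, ← hb i, ← Finset.sum_sub_distrib]
    refine sum_mem fun k _ => ?_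
    rw [← sub_smul]
    refine Submodule.smul_mem_smul ?_ trivial
    rw [← neg_sub]
    exact neg_mem (hcst (b i k))
  have hΦs : Function.Surjective Φ := by
    rw [← LinearMap.range_eq_top, eq_top_iff]
    refine Submodule.le_of_le_smul_of_le_jacobson_bot (I := maximalIdeal A) Module.Finite.fg_top
      (IsLocalRing.maximalIdeal_le_jacobson _) fun v _ => ?_
    choose vl hvl using fun i => Ideal.Quotient.mk_surjective (v i)
    have hv : v = ∑ i, vl i • ε i := by
      funext j
      rw [Finset.sum_apply, Finset.sum_eq_single j]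
      · simp [ε, Algebra.smul_def, hvl]
      · intro i _ hij
        simp [ε, Pi.single_eq_of_ne (Ne.symm hij)]
      · exact fun h => absurd (Finset.mem_univ j) h
    rw [hv]
    refine sum_mem fun i _ => ?_
    rw [show vl i • ε i = vl i • φ (d (y i)) - vl i • (φ (d (y i)) - ε i) by rw [smul_sub]; abel]
    refine sub_mem (Submodule.mem_sup_left ⟨Pi.single i (vl i), ?_⟩)
      (Submodule.mem_sup_right (Submodule.smul_mem _ _ (hε i)))
    rw [hΦ, Finset.sum_eq_single i (fun j _ hj => by simp [Pi.single_eq_of_ne hj])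
      (fun h => absurd (Finset.mem_univ i) h), Pi.single_eq_same]
  -- the `y i` generate the maximal ideal modulo the maximal ideal of `O`
  set Y : Ideal A := Ideal.span (Set.range y) with hYdef
  have hmY : maximalIdeal A ≤ Y ⊔ (maximalIdeal O).map (algebraMap O A) := by
    refine Submodule.le_of_le_smul_of_le_jacobson_bot (I := maximalIdeal A)
      (IsNoetherian.noetherian _) (IsLocalRing.maximalIdeal_le_jacobson _) fun z hz => ?_
    set 𝔟 : Ideal A := (maximalIdeal O).map (algebraMap O A) ⊔ maximalIdeal A * maximalIdeal A with h𝔟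
    let q := Ideal.Quotient.mkₐ A 𝔟
    have hq : ∀ (z : A) (c : O), z - algebraMap O A c ∈ maximalIdeal A →
        q (z - algebraMap O A (cst z)) = q (z - algebraMap O A c) := by
      intro z c hc
      rw [Ideal.Quotient.mkₐ_eq_mk, Ideal.Quotient.eq]
      refine Ideal.mem_sup_left ?_
      rw [sub_sub_sub_cancel_left, ← map_sub]
      refine Ideal.mem_map_of_mem _ (hO _ ?_)
      rw [map_sub, ← sub_sub_sub_cancel_left _ _ z]
      exact sub_mem (hcst z) hc
    let Dl : A →ₗ[O] A ⧸ 𝔟 :=
      { toFun := fun z => q (z - algebraMap O A (cst z))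
        map_add' := fun z z' => by
          rw [hq (z + z') (cst z + cst z')
            (by rw [map_add, add_sub_add_comm]; exact add_mem (hcst z) (hcst z')), map_add,
            add_sub_add_comm, map_add]
        map_smul' := fun t z => by
          rw [hq (t • z) (t * cst z) (by
            rw [Algebra.smul_def, map_mul, ← mul_sub]; exact Ideal.mul_mem_left _ _ (hcst z)),
            RingHom.id_apply, Algebra.smul_def t z, map_mul, ← mul_sub, ← Algebra.smul_def]
          rfl }
    let Dd : Derivation O A (A ⧸ 𝔟) := Derivation.mk' Dl fun u v => by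
      show q (u * v - algebraMap O A (cst (u * v))) =
        u • q (v - algebraMap O A (cst v)) + v • q (u - algebraMap O A (cst u))
      have h2 : (u - algebraMap O A (cst u)) * (v - algebraMap O A (cst v)) ∈
          maximalIdeal A * maximalIdeal A := Ideal.mul_mem_mul (hcst u) (hcst v)
      rw [hq (u * v) (cst u * cst v) (by
        rw [map_mul, show u * v - algebraMap O A (cst u) * algebraMap O A (cst v) =
          u * (v - algebraMap O A (cst v)) + algebraMap O A (cst v) * (u - algebraMap O A (cst u)) by ring]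
        exact add_mem (Ideal.mul_mem_left _ _ (hcst v)) (Ideal.mul_mem_left _ _ (hcst u))),
        ← map_smul, ← map_smul, ← map_add, Ideal.Quotient.mkₐ_eq_mk, Ideal.Quotient.eq, smul_eq_mul,
        smul_eq_mul, map_mul]
      refine Ideal.mem_sup_right ?_
      convert neg_mem h2 using 1
      ring
    obtain ⟨w, hw⟩ := hΦs (φ (d z))
    have hdz : d z = ∑ i, w i • d (y i) := φ.injective (by rw [← hw, hΦ, map_sum]; simp)
    have h1 := congrArg Dd.liftKaehlerDifferential hdz
    rw [map_sum, Derivation.liftKaehlerDifferential_comp_D] at h1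
    simp only [d, map_smul, Derivation.liftKaehlerDifferential_comp_D] at h1
    have hDy : ∀ u ∈ maximalIdeal A, Dd u = q u := fun u hu => by
      show q (u - algebraMap O A (cst u)) = q u
      rw [hq u 0 (by simpa using hu)]; simp
    rw [hDy z hz, Finset.sum_congr rfl fun i _ => by rw [hDy _ (hym i), ← map_smul], ← map_sum,
      Ideal.Quotient.mkₐ_eq_mk, Ideal.Quotient.eq] at h1
    rw [show z = (∑ i, w i • y i) + (z - ∑ i, w i • y i) by ring]
    refine add_mem (Submodule.mem_sup_left (Ideal.mem_sup_left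
      (sum_mem fun i _ => Submodule.smul_mem _ _ (Ideal.subset_span ⟨i, rfl⟩)))) ?_
    obtain ⟨u, hu, v, hv, huv⟩ := Submodule.mem_sup.1 h1
    rw [← huv]
    exact add_mem (Submodule.mem_sup_left (Ideal.mem_sup_right hu)) (Submodule.mem_sup_right hv)
  have hys : Function.Surjective (aeval y : MvPolynomial (Fin r) O →ₐ[O] A) := by
    refine (LinearMap.range_eq_top (f := (aeval y : MvPolynomial (Fin r) O →ₐ[O] A).toLinearMap)).1 (hnak _ fun z => ?_)
    suffices H : ∀ n z, ∃ g, z - aeval y g ∈ Y ^ n ⊔ (maximalIdeal O).map (algebraMap O A) by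
      obtain ⟨g, hg⟩ := H N₀ z
      refine ⟨_, ⟨g, rfl⟩, sup_le ((Ideal.pow_right_mono ?_ N₀).trans hN₀) le_rfl hg⟩
      rw [hYdef, Ideal.span_le]
      rintro _ ⟨i, rfl⟩
      exact hym i
    intro n
    induction n with
    | zero => exact fun z => ⟨0, Ideal.mem_sup_left (by simp)⟩
    | succ n ih =>
      intro z
      obtain ⟨u, hu, v, hv, huv⟩ := Submodule.mem_sup.1 (hmY (hcst z))
      obtain ⟨t, rfl⟩ := Submodule.mem_span_range_iff_exists_fun A |>.1 hu
      choose g hg using fun i => ih (t i)
      refine ⟨C (cst z) + ∑ i, g i * X i, ?_⟩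
      rw [map_add, map_sum, MvPolynomial.aeval_C,
        show z - (algebraMap O A (cst z) + ∑ i, aeval y (g i * X i)) =
          (∑ i, t i • y i) - (∑ i, aeval y (g i * X i)) + v by rw [← sub_sub, ← huv]; ring,
        ← Finset.sum_sub_distrib]
      refine add_mem (sum_mem fun i _ => ?_) (Ideal.mem_sup_right hv)
      rw [map_mul, MvPolynomial.aeval_X, smul_eq_mul, ← sub_mul]
      obtain ⟨p, hp, q, hq, hpq⟩ := Submodule.mem_sup.1 (hg i)
      rw [← hpq, add_mul, pow_succ]
      exact add_mem (Ideal.mem_sup_left (Ideal.mul_mem_mul hp (Ideal.subset_span ⟨i, rfl⟩)))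
        (Ideal.mem_sup_right (Ideal.mul_mem_right _ _ hq))
  -- the relations
  let grad : MvPolynomial (Fin r) O → (Fin r → A) := fun g i => aeval y (pderiv i g)
  let R : Submodule A (Fin r → A) :=
    { carrier := {w | ∃ g, aeval y g = 0 ∧ grad g = w}
      zero_mem' := ⟨0, by simp, by funext i; simp [grad]⟩
      add_mem' := by
        rintro _ _ ⟨g, hg, rfl⟩ ⟨g', hg', rfl⟩
        exact ⟨g + g', by simp [hg, hg'], by funext i; simp [grad]⟩
      smul_mem' := by
        rintro u _ ⟨g, hg, rfl⟩
        obtain ⟨q, rfl⟩ := hys u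
        exact ⟨q * g, by simp [hg], by funext i; simp [grad, hg]⟩ }
  have hR1 : ∀ g, aeval y g = 0 → Φ (grad g) = 0 := by
    intro g hg
    have h := congrArg φ (derivation_aeval d y g)
    rw [hg, map_zero, map_zero, map_sum] at h
    rw [hΦ, h]
    simp [grad]
  have hR2 : ∀ w, Φ w = 0 → w ∈ R := by
    intro w hw
    choose σ hσ using fun z => hys z
    have hwd : ∀ g g', aeval y g = aeval y g' → R.mkQ (grad g) = R.mkQ (grad g') := fun g g' h => by
      rw [Submodule.mkQ_apply, Submodule.mkQ_apply, Submodule.Quotient.eq]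
      exact ⟨g - g', by simp [h], by funext i; simp [grad]⟩
    let δl : A →ₗ[O] (Fin r → A) ⧸ R :=
      { toFun := fun z => R.mkQ (grad (σ z))
        map_add' := fun z z' => by
          rw [hwd (σ (z + z')) (σ z + σ z') (by rw [map_add, hσ, hσ, hσ]), ← map_add]
          exact congrArg _ (by funext i; simp [grad])
        map_smul' := fun t z => by
          rw [hwd (σ (t • z)) (t • σ z) (by rw [map_smul, hσ, hσ]), RingHom.id_apply]
          rw [show grad (t • σ z) = t • grad (σ z) by funext i; simp [grad]]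
          rfl }
    let δ : Derivation O A ((Fin r → A) ⧸ R) := Derivation.mk' δl fun u v => by
      show R.mkQ (grad (σ (u * v))) = u • R.mkQ (grad (σ v)) + v • R.mkQ (grad (σ u))
      rw [hwd (σ (u * v)) (σ u * σ v) (by rw [map_mul, hσ, hσ, hσ]), ← map_smul, ← map_smul, ← map_add]
      refine congrArg _ (funext fun i => ?_)
      simp [grad, MvPolynomial.pderiv_mul, hσ]
    have h1 : ∑ i, w i • d (y i) = 0 := φ.injective (by rw [map_sum, map_zero, ← hw, hΦ]; simp)
    have h2 := congrArg δ.liftKaehlerDifferential h1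
    rw [map_sum, map_zero] at h2
    simp only [d, map_smul, Derivation.liftKaehlerDifferential_comp_D] at h2
    have h3 : ∀ i, δ (y i) = R.mkQ (Pi.single i 1) := by
      intro i
      show R.mkQ (grad (σ (y i))) = _
      rw [hwd (σ (y i)) (X i) (by simp [hσ])]
      refine congrArg _ (funext fun j => ?_)
      by_cases hj : j = i
      · subst hj; simp [grad]
      · simp [grad, MvPolynomial.pderiv_X_of_ne (Ne.symm hj), Pi.single_eq_of_ne hj]
    rw [Finset.sum_congr rfl fun i _ => by rw [h3 i, ← map_smul], ← map_sum,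
      Submodule.mkQ_apply, Submodule.Quotient.mk_eq_zero] at h2
    convert h2
    funext j
    simp [Finset.sum_apply, Pi.single_apply]
  have hker : ∀ w, Φ w = 0 ↔ ∀ i, w i ∈ Ideal.span {algebraMap O A a} := by
    let Φ' : (Fin r → A ⧸ Ideal.span {algebraMap O A a}) →ₗ[A ⧸ Ideal.span {algebraMap O A a}]
        (Fin r → A ⧸ Ideal.span {algebraMap O A a}) :=
      Fintype.linearCombination _ (fun i => φ (d (y i)))
    have hcomp : ∀ w, Φ' (fun i => Ideal.Quotient.mk _ (w i)) = Φ w := fun w => by
      rw [hΦ]; rfl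
    have hs : Function.Surjective Φ' := fun v => by
      obtain ⟨w, hw⟩ := hΦs v
      exact ⟨_, (hcomp w).trans hw⟩
    have hi : Function.Injective Φ' := OrzechProperty.injective_of_surjective_endomorphism Φ' hs
    intro w
    rw [← hcomp w]
    refine ⟨fun h i => Ideal.Quotient.eq_zero_iff_mem.1 (congrFun (hi (h.trans (map_zero _).symm)) i),
      fun h => ?_⟩
    rw [show (fun i => Ideal.Quotient.mk _ (w i)) = (0 : Fin r → A ⧸ Ideal.span {algebraMap O A a}) from
      funext fun i => Ideal.Quotient.eq_zero_iff_mem.2 (h i), map_zero]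
  have hderiv : ∀ g, aeval y g = 0 → ∀ i,
      pderiv i g ∈ Ideal.span {C a} ⊔ RingHom.ker (aeval (R := O) y) := by
    intro g hg i
    obtain ⟨t, ht⟩ := Ideal.mem_span_singleton'.1 ((hker _).1 (hR1 g hg) i)
    obtain ⟨q, rfl⟩ := hys t
    refine Submodule.mem_sup.2 ⟨q * C a, Ideal.mem_span_singleton'.2 ⟨q, rfl⟩, _, ?_, add_sub_cancel _ _⟩
    rw [RingHom.mem_ker, map_sub, map_mul, MvPolynomial.aeval_C, ht]
    exact sub_self _
  have hgen : ∀ i, ∃ g : MvPolynomial (Fin r) O, aeval y g = 0 ∧
      ∀ j, pderiv j g - (if i = j then C a else 0) ∈ RingHom.ker (aeval (R := O) y) := by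
    intro i
    obtain ⟨g, hg, hgg⟩ := hR2 (Pi.single i (algebraMap O A a)) ((hker _).2 fun j => by
      by_cases hj : j = i
      · subst hj; simp [Ideal.mem_span_singleton_self]
      · simp [Pi.single_eq_of_ne hj])
    refine ⟨g, hg, fun j => ?_⟩
    rw [RingHom.mem_ker, map_sub, sub_eq_zero]
    refine (congrFun hgg j).trans ?_
    by_cases hj : i = j
    · subst hj; simp
    · rw [if_neg hj, map_zero, Pi.single_eq_of_ne (Ne.symm hj)]
  refine ⟨r, y, ⟨hys, hderiv, hgen, ?_, fun i => ⟨N₀, hN₀ (Ideal.pow_mem_pow (hym i) _)⟩⟩⟩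
  -- the kernel of the differential
  let ι : MvPolynomial (Fin r) O →ₐ[O] (MvPolynomial (Fin m) O) := aeval ιy
  have hιev : ∀ g, aeval x (ι g) = aeval y g := fun g => by
    have := DFunLike.congr_fun (MvPolynomial.comp_aeval ιy (aeval x : (MvPolynomial (Fin m) O) →ₐ[O] A)) g
    refine this.trans ?_
    congr 2
    exact funext hιy
  have hιd : ∀ g k, aeval x (pderiv k (ι g)) = ∑ i, aeval y (pderiv i g) * algebraMap O A (c i k) := by
    intro g k
    rw [derivation_aeval (pderiv k) ιy g, map_sum]
    refine Finset.sum_congr rfl fun i _ => ?_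
    rw [smul_eq_mul, map_mul, hιev]
    congr 1
    rw [map_sum, map_sum, Finset.sum_eq_single k]
    · simp [MvPolynomial.pderiv_mul]
    · intro l _ hl
      simp [MvPolynomial.pderiv_mul, MvPolynomial.pderiv_X_of_ne hl]
    · exact fun h => absurd (Finset.mem_univ k) h
  choose p hp using fun k => hys (x k)
  choose g₁ hg₁ hg₁' using hgen
  -- witnesses for `a • e_k`
  have hW : ∀ k, ∃ H : (MvPolynomial (Fin m) O), aeval x H = 0 ∧
      ∀ l, aeval x (pderiv l H) = if k = l then algebraMap O A a else 0 := by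
    intro k
    refine ⟨C a * (X k - ι (p k)) + ∑ i, ι (pderiv i (p k)) * ι (g₁ i), ?_, fun l => ?_⟩
    · simp [hιev, hp, hg₁]
    · have hgl : ∀ i, aeval x (pderiv l (ι (g₁ i))) = algebraMap O A a * algebraMap O A (c i l) := by
        intro i
        rw [hιd, Finset.sum_eq_single i]
        · have := hg₁' i i
          rw [RingHom.mem_ker, if_pos rfl, map_sub, sub_eq_zero, MvPolynomial.aeval_C] at this
          rw [this]
        · intro j _ hj
          have := hg₁' i j
          rw [RingHom.mem_ker, if_neg (Ne.symm hj), sub_zero] at this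
          rw [this, zero_mul]
        · exact fun h => absurd (Finset.mem_univ i) h
      simp only [map_add, map_sum, map_sub, MvPolynomial.pderiv_mul, MvPolynomial.pderiv_C, zero_mul,
        zero_add, map_mul, MvPolynomial.aeval_C, hgl, hιev, hg₁, mul_zero, hιd, map_zero]
      rw [mul_sub, Finset.mul_sum, sub_add, ← Finset.sum_sub_distrib,
        Finset.sum_eq_zero (fun i _ => by ring), sub_zero]
      by_cases hkl : k = l
      · subst hkl; simp
      · simp [MvPolynomial.pderiv_X_of_ne hkl, if_neg hkl]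
  choose fq hfq using fun (N : ℕ) (i : Fin m) => CohenLib.exists_polynomial_sub_mem N (f i)
  have hπf : ∀ i, π (f i) = 0 := fun i => by
    show e (Ideal.Quotient.mk _ (f i)) = 0
    rw [Ideal.Quotient.eq_zero_iff_mem.2 (Ideal.subset_span (Set.mem_range_self i)), map_zero]
  have hkerπ : ∀ H : (MvPolynomial (Fin m) O), aeval x H = 0 → ∃ cf : Fin m → MvPowerSeries (Fin m) O, ∑ i, cf i • f i = ι₀ H := by
    intro H hH
    rw [← hev] at hH
    refine Submodule.mem_span_range_iff_exists_fun _ |>.1 ?_
    exact Ideal.Quotient.eq_zero_iff_mem.1 (e.injective (hH.trans (map_zero _).symm))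
  -- the polynomial truncations
  have htr : ∀ (H : (MvPolynomial (Fin m) O)) (cf : Fin m → MvPowerSeries (Fin m) O), ∑ i, cf i • f i = ι₀ H →
      ∀ N, ∃ cq : Fin m → (MvPolynomial (Fin m) O), (∀ i, π (cf i) - aeval x (cq i) ∈ maximalIdeal A ^ N) ∧
        H - ∑ i, cq i * fq N i ∈ idealOfVars (Fin m) O ^ N := by
    intro H cf hcf N
    choose cq hcq using fun i => CohenLib.exists_polynomial_sub_mem N (cf i)
    refine ⟨cq, fun i => happrox N _ _ (hcq i), mem_pow_of_coe_mem ?_⟩
    show ι₀ (H - ∑ i, cq i * fq N i) ∈ _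
    rw [map_sub, map_sum, ← hcf, ← Finset.sum_sub_distrib]
    refine sum_mem fun i _ => ?_
    rw [map_mul, smul_eq_mul, show cf i * f i - ι₀ (cq i) * ι₀ (fq N i) =
      (cf i - ι₀ (cq i)) * f i + ι₀ (cq i) * (f i - ι₀ (fq N i)) by ring]
    exact add_mem (Ideal.mul_mem_right _ _ (hcq i)) (Ideal.mul_mem_left _ _ (hfq N i))
  have hfx : ∀ N i, aeval x (fq N i) ∈ maximalIdeal A ^ N := fun N i => by
    have := happrox N _ _ (hfq N i)
    rwa [hπf, zero_sub, neg_mem_iff] at this
  have hvx : ∀ N q, q ∈ idealOfVars (Fin m) O ^ N → aeval x q ∈ maximalIdeal A ^ N := by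
    intro N q hq
    have := Ideal.mem_map_of_mem (aeval x : (MvPolynomial (Fin m) O) →ₐ[O] A).toRingHom hq
    rw [Ideal.map_pow, idealOfVars_eq_span, Ideal.map_span] at this
    refine Ideal.pow_right_mono (Ideal.span_le.2 ?_) N this
    rintro _ ⟨_, ⟨i, rfl⟩, rfl⟩
    simpa using hxm i
  let J : ℕ → Matrix (Fin m) (Fin m) A := fun N i k => aeval x (pderiv k (fq (N + 1) i))
  have hdiff : ∀ (H : (MvPolynomial (Fin m) O)) (cf : Fin m → MvPowerSeries (Fin m) O), ∑ i, cf i • f i = ι₀ H →
      ∀ N k, aeval x (pderiv k H) - ∑ i, π (cf i) * J N i k ∈ maximalIdeal A ^ N := by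
    intro H cf hcf N k
    obtain ⟨cq, hc1, hc2⟩ := htr H cf hcf (N + 1)
    have h1 := hvx N _ (deriv_pow_mem _ k N _ hc2)
    simp only [map_sub, map_sum, MvPolynomial.pderiv_mul, map_add, map_mul,
      Finset.sum_add_distrib] at h1
    have h2 : ∑ i, aeval x (pderiv k (cq i)) * aeval x (fq (N + 1) i) +
        ∑ i, (aeval x (cq i) - π (cf i)) * J N i k ∈ maximalIdeal A ^ N :=
      add_mem (sum_mem fun i _ => Ideal.mul_mem_left _ _ (Ideal.pow_le_pow_right (Nat.le_succ N) (hfx _ i)))
        (sum_mem fun i _ => Ideal.mul_mem_right _ _ (Ideal.pow_le_pow_right (Nat.le_succ N)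
          (by rw [← neg_sub]; exact neg_mem (hc1 i))))
    convert add_mem h1 h2 using 1
    simp only [sub_mul, Finset.sum_sub_distrib, J]
    ring
  have hzero : ∀ w : Fin m → A, (∀ N k, ∑ i, w i * J N i k ∈ maximalIdeal A ^ N) → w = 0 := by
    intro w hw
    choose H hH hH' using hW
    choose cf hcf using fun k => hkerπ (H k) (hH k)
    funext i
    have hreg : IsSMulRegular A (a ^ m) :=
      Module.Flat.isSMulRegular_of_nonZeroDivisors (mem_nonZeroDivisors_of_ne_zero (pow_ne_zero _ ha))
    refine hreg (?_ : a ^ m • w i = a ^ m • (0 : A))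
    rw [smul_zero, ← Ideal.mem_bot, ← Ideal.iInf_pow_eq_bot_of_isLocalRing (maximalIdeal A)
      (IsLocalRing.maximalIdeal.isMaximal A).ne_top, Submodule.mem_iInf]
    intro N
    let q := Ideal.Quotient.mk (maximalIdeal A ^ N)
    let Jq : Matrix (Fin m) (Fin m) (A ⧸ maximalIdeal A ^ N) := (J N).map q
    let Bq : Matrix (Fin m) (Fin m) (A ⧸ maximalIdeal A ^ N) := fun k i => q (π (cf k i))
    have hBJ : Bq * Jq = q (algebraMap O A a) • (1 : Matrix (Fin m) (Fin m) _) := by
      refine Matrix.ext fun k l => ?_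
      have := Ideal.Quotient.eq_zero_iff_mem.2 (hdiff (H k) (cf k) (hcf k) N l)
      rw [map_sub, sub_eq_zero, hH' k l, map_sum] at this
      rw [Matrix.mul_apply, Matrix.smul_apply, Matrix.one_apply]
      simp only [map_mul] at this
      refine this.symm.trans ?_
      split_ifs <;> simp [q]
    have hdet : Bq.det * Jq.det = q (algebraMap O A a) ^ m := by
      rw [← Matrix.det_mul, hBJ, Matrix.det_smul, Matrix.det_one, mul_one, Fintype.card_fin]
    have hwJ : Matrix.vecMul (q ∘ w) Jq = 0 := by
      funext k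
      have := Ideal.Quotient.eq_zero_iff_mem.2 (hw N k)
      simpa [Matrix.vecMul, dotProduct, Jq, q] using this
    have h1 : Jq.det • (q ∘ w) = 0 := by
      rw [← Matrix.vecMul_one (q ∘ w), ← Matrix.vecMul_smul, ← Matrix.mul_adjugate, ← Matrix.vecMul_vecMul,
        hwJ, Matrix.zero_vecMul]
    rw [← Ideal.Quotient.eq_zero_iff_mem, Algebra.smul_def, map_pow, map_mul, map_pow]
    change q (algebraMap O A a) ^ m * q (w i) = 0
    rw [← hdet, mul_assoc]
    have := congrFun h1 i
    simp only [Pi.smul_apply, Function.comp_apply, smul_eq_mul, Pi.zero_apply] at this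
    rw [this, mul_zero]
  have hcomap : ∀ N (q : (MvPolynomial (Fin m) O)), aeval x q ∈ maximalIdeal A ^ N →
      q ∈ RingHom.ker (aeval (R := O) x) ⊔ jIdeal O (Fin m) ^ N := by
    intro N q hq
    have hJ : maximalIdeal A ≤ (jIdeal O (Fin m)).map (aeval x : (MvPolynomial (Fin m) O) →ₐ[O] A).toRingHom := by
      intro z hz
      obtain ⟨F, rfl⟩ := hxs z
      have h1 : F - C (MvPolynomial.constantCoeff F) ∈ Ideal.span (Set.range X) := by
        rw [← idealOfVars_eq_span, ← pow_one (idealOfVars _ _), MvPolynomial.mem_pow_idealOfVars_iff']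
        intro d hd
        rw [show d = 0 from (Finsupp.degree_eq_zero_iff d).1 (by omega)]
        simp [MvPolynomial.constantCoeff_eq]
      have h2 : MvPolynomial.constantCoeff F ∈ maximalIdeal O := hO _ (by
        have h3 := hvx 1 _ (by rw [pow_one, idealOfVars_eq_span]; exact h1)
        rw [pow_one, map_sub, MvPolynomial.aeval_C] at h3
        have := sub_mem hz h3
        simpa using this)
      rw [show F = C (MvPolynomial.constantCoeff F) + (F - C (MvPolynomial.constantCoeff F)) by ring]
      exact Ideal.mem_map_of_mem (aeval x : (MvPolynomial (Fin m) O) →ₐ[O] A).toRingHom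
        (add_mem (Ideal.mem_sup_left (Ideal.mem_map_of_mem _ h2)) (Ideal.mem_sup_right h1))
    have h1 := Ideal.pow_right_mono hJ N hq
    rw [← Ideal.map_pow] at h1
    obtain ⟨q', hq', hqq⟩ := (Ideal.mem_map_iff_of_surjective _ hxs).1 h1
    rw [show q = (q - q') + q' by ring]
    refine add_mem (Ideal.mem_sup_left ?_) (Ideal.mem_sup_right hq')
    rw [RingHom.mem_ker, map_sub, sub_eq_zero]
    exact hqq.symm
  intro g hg hdg N
  obtain ⟨cf, hcf⟩ := hkerπ (ι g) (by rw [hιev, hg])
  have hcf0 : (fun i => π (cf i)) = 0 := hzero _ fun N k => by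
    have := hdiff (ι g) cf hcf N k
    rw [hιd, Finset.sum_eq_zero (fun i _ => by rw [RingHom.mem_ker.1 (hdg i), zero_mul]), zero_sub,
      neg_mem_iff] at this
    exact this
  obtain ⟨cq, hc1, hc2⟩ := htr (ι g) cf hcf N
  let K := RingHom.ker (aeval (R := O) x)
  let Jx := jIdeal O (Fin m)
  have hG : ι g ∈ K * K ⊔ Jx ^ N := by
    rw [show ι g = (ι g - ∑ i, cq i * fq N i) + ∑ i, cq i * fq N i by ring]
    refine add_mem (Ideal.mem_sup_right (Ideal.pow_right_mono le_sup_right N hc2)) (sum_mem fun i _ => ?_)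
    have h1 := hcomap N (cq i) (by
      have := hc1 i
      rwa [show π (cf i) = 0 from congrFun hcf0 i, zero_sub, neg_mem_iff] at this)
    have h2 := hcomap N _ (hfx N i)
    refine (?_ : (K ⊔ Jx ^ N) * (K ⊔ Jx ^ N) ≤ K * K ⊔ Jx ^ N) (Ideal.mul_mem_mul h1 h2)
    rw [Ideal.sup_mul, Ideal.mul_sup]
    exact sup_le (sup_le le_sup_left (Ideal.mul_le_right.trans le_sup_right))
      (Ideal.mul_le_left.trans le_sup_right)
  let ret : (MvPolynomial (Fin m) O) →ₐ[O] MvPolynomial (Fin r) O := aeval p
  have hretev : ∀ q, aeval y (ret q) = aeval x q := fun q => by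
    refine (DFunLike.congr_fun (MvPolynomial.comp_aeval p (aeval y : _ →ₐ[O] A)) q).trans ?_
    congr 2
    exact funext hp
  have hretJ : Jx.map ret.toRingHom ≤ jIdeal O (Fin r) := by
    simp only [Jx, jIdeal, Ideal.map_sup, sup_le_iff, Ideal.map_map, Ideal.map_span, Ideal.span_le]
    refine ⟨(le_of_eq ?_).trans le_sup_left, ?_⟩
    · congr 1; exact RingHom.ext fun t => by simp [ret]
    rintro _ ⟨_, ⟨k, rfl⟩, rfl⟩
    show ret (X k) ∈ jIdeal O (Fin r)
    simp only [ret, MvPolynomial.aeval_X]
    have h1 : p k - C (MvPolynomial.constantCoeff (p k)) ∈ Ideal.span (Set.range X) := by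
      rw [← idealOfVars_eq_span, ← pow_one (idealOfVars _ _), MvPolynomial.mem_pow_idealOfVars_iff']
      intro d hd
      rw [show d = 0 from (Finsupp.degree_eq_zero_iff d).1 (by omega)]
      simp [MvPolynomial.constantCoeff_eq]
    have h2 : MvPolynomial.constantCoeff (p k) ∈ maximalIdeal O := hO _ (by
      have h3 := Ideal.mem_map_of_mem (aeval y : MvPolynomial (Fin r) O →ₐ[O] A).toRingHom h1
      rw [Ideal.map_span] at h3
      have h4 : aeval y (p k - C (MvPolynomial.constantCoeff (p k))) ∈ maximalIdeal A :=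
        Ideal.span_le.2 (by rintro _ ⟨_, ⟨i, rfl⟩, rfl⟩; simpa using hym i) h3
      rw [map_sub, MvPolynomial.aeval_C, hp] at h4
      have := sub_mem (hxm k) h4
      simpa using this)
    rw [show p k = C (MvPolynomial.constantCoeff (p k)) + (p k - C (MvPolynomial.constantCoeff (p k))) by ring]
    exact add_mem (Ideal.mem_sup_left (Ideal.mem_map_of_mem _ h2)) (Ideal.mem_sup_right h1)
  let Lk := RingHom.ker (aeval (R := O) y)
  have hretG : ret (ι g) ∈ Lk * Lk ⊔ jIdeal O (Fin r) ^ N := by
    have := Ideal.mem_map_of_mem ret.toRingHom hG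
    rw [Ideal.map_sup, Ideal.map_mul, Ideal.map_pow] at this
    refine sup_le_sup (Ideal.mul_mono ?_ ?_) (Ideal.pow_right_mono hretJ N) this <;>
    · rw [Ideal.map_le_iff_le_comap]
      intro q hq
      show aeval y (ret q) = 0
      rw [hretev]; exact hq
  have hφ : ∀ q, ret (ι q) = aeval (fun i => X i + (ret (ιy i) - X i)) q := fun q => by
    refine (DFunLike.congr_fun (MvPolynomial.comp_aeval ιy ret) q).trans ?_
    congr 2
    funext i; ring
  have hw : ∀ i, ret (ιy i) - X i ∈ Lk := fun i => by
    rw [RingHom.mem_ker, map_sub, hretev, hιy, MvPolynomial.aeval_X, sub_self]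
  have h3 := aeval_translate_sub_mem Lk _ hw g
  rw [← hφ] at h3
  rw [show g = ret (ι g) - ((ret (ι g) - g - ∑ i, pderiv i g * (ret (ιy i) - X i)) +
    ∑ i, pderiv i g * (ret (ιy i) - X i)) by ring]
  exact sub_mem hretG (Ideal.mem_sup_left
    (add_mem h3 (sum_mem fun i _ => Ideal.mul_mem_mul (hdg i) (hw i))))

end FontaineLib
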