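import Groth.Agent.FontaineLib.Approx
import Groth.Agent.FontaineLib.Points
import Groth.Agent.FontaineLib.Pres
import Mathlib.Data.ZMod.Basic
import Mathlib.LinearAlgebra.Dimension.Free
import Mathlib.NumberTheory.PrimeCounting

/-! Fontaine's bound on the ramification of the field generated by the points. -/

set_option linter.unusedSectionVars false

universe u

open IsLocalRing IsDiscreteValuationRing Polynomial
open W4c1noabschz1 (IsDPTopNilpotent)

local notation "𝔪" => IsLocalRing.maximalIdeal

namespace FontaineLib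

variable {O : Type u} [CommRing O] [IsDomain O] [IsDiscreteValuationRing O]
  [IsAdicComplete (𝔪 O) O] [CharZero O]

theorem exists_mul_modEq {e N : ℕ} (he : 0 < e) (hN : N.Coprime e) (W : ℕ) :
    ∃ k < e, k * N % e = W % e := by
  haveI : NeZero e := ⟨he.ne'⟩
  refine ⟨((W : ZMod e) * (N : ZMod e)⁻¹).val, ZMod.val_lt _, ?_⟩
  rw [← ZMod.natCast_eq_natCast_iff', Nat.cast_mul, ZMod.natCast_zmod_val, mul_assoc,
    mul_comm _ (N : ZMod e), ZMod.coe_mul_inv_eq_one N hN, mul_one]

/-- The map of rings of integers of an inclusion of fields. -/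
noncomputable def intMap {E F : IntermediateField (FractionRing O) (AlgebraicClosure (FractionRing O))}
    (h : E ≤ F) : integralClosure O E →ₐ[O] integralClosure O F :=
  AlgHom.mapIntegralClosure ((IntermediateField.inclusion h).restrictScalars O)

theorem intMap_injective {E F : IntermediateField (FractionRing O) (AlgebraicClosure (FractionRing O))}
    (h : E ≤ F) : Function.Injective (intMap (O := O) h) := fun x y hxy => by
  refine inclInt_injective E ?_
  have := congrArg (inclInt F) hxy
  exact this

theorem ord_map_le_of_finrank {B C : Type u} [CommRing B] [IsDomain B] [IsDiscreteValuationRing B]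
    [CommRing C] [IsDomain C] [IsDiscreteValuationRing C] [Algebra O B] [Algebra O C] [Module.Finite O B]
    [Module.Finite O C] [Module.IsTorsionFree O B] [Module.IsTorsionFree O C] (ι : B →ₐ[O] C)
    (hι : Function.Injective ι.toRingHom) {b : B} (hb : Irreducible b) {N : ℕ}
    (h : Module.finrank O C ≤ Module.finrank O B * N) : ord (ι.toRingHom b) ≤ N := by
  letI := ι.toRingHom.toAlgebra
  haveI : IsScalarTower O B C := IsScalarTower.of_algebraMap_eq fun x => (ι.commutes x).symm
  haveI : Module.Finite B C := Module.Finite.of_restrictScalars_finite O B C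
  haveI : Module.IsTorsionFree B C := Module.isTorsionFree_iff_algebraMap_injective.2 hι
  refine (ord_algebraMap_le_finrank (T := C) hι hb).trans ?_
  rw [← Module.finrank_mul_finrank O B C] at h
  exact Nat.le_of_mul_le_mul_left h Module.finrank_pos

variable {A : Type u} [CommRing A] [Algebra O A] [Module.Finite O A]
  {L : IntermediateField (FractionRing O) (AlgebraicClosure (FractionRing O))}
  [FiniteDimensional (FractionRing O) L] [IsGalois (FractionRing O) L]
  (hL : L = IntermediateField.adjoin (FractionRing O)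
    (⋃ φ : A →ₐ[O] AlgebraicClosure (FractionRing O), Set.range φ))
  [IsDiscreteValuationRing (integralClosure O L)]
  {α : integralClosure O L} (hadj : Algebra.adjoin O {α} = ⊤)

local notation "S" => integralClosure O L

include hadj in
theorem galInt_ne (σ τ : Gal(L/FractionRing O)) (hτ : τ ≠ 1) :
    galInt σ α ≠ galInt (σ * τ) α := fun h => hτ (mul_eq_left.1 (galInt_injective hadj h).symm)

include hadj in
theorem ord_galInt_sub (σ τ : Gal(L/FractionRing O)) :
    ord (galInt σ α - galInt (σ * τ) α) = ord (α - galInt τ α) := by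
  rw [galInt_mul, ← map_sub, ord_algEquiv]

include hadj in
theorem card_inertia_le [PerfectField (ResidueField O)] [Module.IsTorsionFree O S]
    [DecidableEq Gal(L/FractionRing O)] {g : O[X]} (hirr : Irreducible (aeval α g))
    (hsep : (g.map ((IsLocalRing.residue S).comp (algebraMap O S))).Separable)
    {π : O} (hπ : Irreducible π) :
    ((Finset.univ.erase (1 : Gal(L/FractionRing O))).filter fun τ => 0 < ord (α - galInt τ α)).card + 1 ≤
      ord (algebraMap O S π) := by
  classical
  haveI := integers_finite O L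
  refine le_trans ?_ (card_congruent_le hirr hadj hsep hπ (fun σ => galInt σ α) (minpoly_map_eq hadj))
  rw [← Finset.card_insert_of_notMem (a := (1 : Gal(L/FractionRing O))) (by simp)]
  refine Finset.card_le_card fun τ hτ => Finset.mem_filter.2 ⟨Finset.mem_univ _, ?_⟩
  rcases Finset.mem_insert.1 hτ with rfl | hτ
  · rw [galInt_one]
  obtain ⟨hτ1, hpos⟩ := Finset.mem_filter.1 hτ
  have h0 : α - galInt τ α ≠ 0 := by
    have := galInt_ne hadj 1 τ (Finset.mem_erase.1 hτ1).1
    rwa [one_mul, galInt_one, ← sub_ne_zero] at this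
  refine (Ideal.Quotient.eq.2 ?_).symm
  rw [← pow_one (𝔪 S)]
  exact (le_ord_iff h0).1 hpos

include hL hadj in
set_option maxHeartbeats 1600000 in
open scoped Classical in
/-- The main estimate. -/
theorem break_le [PerfectField (ResidueField O)] [Module.IsTorsionFree O S]
    {g : O[X]} (hirr : Irreducible (aeval α g))
    (hsep : (g.map ((IsLocalRing.residue S).comp (algebraMap O S))).Separable)
    {π : O} (hπ : Irreducible π) (p : ℕ) [Fact p.Prime] {eK : ℕ} (heK : ord (p : O) = eK) (heK0 : 0 < eK)
    {a : O} (ha : a ≠ 0) {va : ℕ} (hva : ord a = va) (hva0 : 0 < va)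
    (hlift : LiftsUniquely A a p) (σ : Gal(L/FractionRing O)) (hσ : σ ≠ 1) :
    (p - 1) * (ord (α - galInt σ α) +
        ∑ τ ∈ Finset.univ.erase (1 : Gal(L/FractionRing O)), ord (α - galInt τ α)) ≤
      (p - 1) * (ord (algebraMap O S π) * va) + ord (algebraMap O S π) * eK := by
  set e := ord (algebraMap O S π) with hedef
  set U := Finset.univ.erase (1 : Gal(L/FractionRing O)) with hU
  set i : Gal(L/FractionRing O) → ℕ := fun τ => ord (α - galInt τ α) with hi
  change (p - 1) * (i σ + ∑ τ ∈ U, i τ) ≤ _
  by_contra hlt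
  push Not at hlt
  obtain ⟨τm, hτm, hmax⟩ := Finset.exists_max_image U i ⟨σ, Finset.mem_erase.2 ⟨hσ, Finset.mem_univ _⟩⟩
  have hp2 : 2 ≤ p := (Fact.out : p.Prime).two_le
  have hbig : (p - 1) * (e * va) + e * eK + 1 ≤ (p - 1) * (∑ τ ∈ U, i τ + i τm) := by
    have h1 : i σ + ∑ τ ∈ U, i τ ≤ ∑ τ ∈ U, i τ + i τm := by
      have := hmax σ (Finset.mem_erase.2 ⟨hσ, Finset.mem_univ _⟩); omega
    have h2 := Nat.mul_le_mul_left (p - 1) h1
    omega
  set D := ∑ τ ∈ U, i τ + i τm with hD
  have hq := card_inertia_le hadj hirr hsep hπ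
  rw [← hedef, ← hU] at hq
  have he0 : 0 < e := by omega
  have heD : e < D := by
    by_contra h
    push Not at h
    have h1 := Nat.mul_le_mul_left (p - 1) h
    have h2 : (p - 1) * e ≤ (p - 1) * (e * va) := Nat.mul_le_mul_left _ (Nat.le_mul_of_pos_right e hva0)
    omega
  obtain ⟨N, hNle, hN⟩ := Nat.exists_infinite_primes (e + p + 1)
  obtain ⟨k, hk, hkW⟩ := exists_mul_modEq he0
    ((hN.coprime_iff_not_dvd).2 fun h => by have := Nat.le_of_dvd he0 h; omega) (N * D - 1)
  set W := N * D - 1 with hWdef
  have hND : N * (e + 1) ≤ N * D := Nat.mul_le_mul_left N heD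
  rw [Nat.mul_add, Nat.mul_one] at hND
  have heW : e * N < W := by rw [mul_comm e N]; omega
  have hkN : k * N < W := lt_of_le_of_lt (Nat.mul_le_mul_right N hk.le) heW
  obtain ⟨s, hs⟩ : e ∣ W - k * N := Nat.dvd_of_mod_eq_zero (Nat.sub_mod_eq_zero_of_mod_eq hkW.symm)
  have hs0 : 0 < s := Nat.pos_of_ne_zero fun h => by simp [h] at hs; omega
  have hW : s * e + k * N = W := by rw [mul_comm s e]; omega
  -- the field of the approximate root
  haveI := integers_finite O L
  have hint : IsIntegral O α := IsIntegral.of_finite O α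
  obtain ⟨E, hEfd, ϖ, β, q, hEdeg, hϖ, hrel⟩ := exists_root (minpoly O α) g (minpoly.monic hint)
    (minpoly.natDegree_pos hint) hN.pos π s k
  let F := E ⊔ L
  haveI : FiniteDimensional (FractionRing O) F := IntermediateField.finiteDimensional_sup E L
  haveI := isSeparable_fractionRing (O := O) F
  haveI := isSeparable_fractionRing (O := O) E
  haveI := isSeparable_fractionRing (O := O) L
  haveI := integers_dvr O E
  haveI := integers_dvr O F
  haveI := integers_finite O E
  haveI := integers_finite O F
  haveI := integers_flat O E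
  haveI := integers_flat O L
  haveI := integers_charZero O E
  haveI := integers_charZero O L
  haveI := integers_isTorsionFree O E
  haveI := integers_isTorsionFree O F
  let ιL : S →ₐ[O] integralClosure O F := intMap le_sup_right
  let ιE : integralClosure O E →ₐ[O] integralClosure O F := intMap le_sup_left
  have hιL : Function.Injective ιL.toRingHom := intMap_injective _
  have hιE : Function.Injective ιE.toRingHom := intMap_injective _
  obtain ⟨πE, hπE⟩ := exists_irreducible (integralClosure O E)
  have hπS0 : algebraMap O S π ≠ 0 := fun h => hπ.ne_zero (integers_injective O L (h.trans (map_zero _).symm))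
  have hπE0 : algebraMap O (integralClosure O E) π ≠ 0 := fun h =>
    hπ.ne_zero (integers_injective O E (h.trans (map_zero _).symm))
  have hposF : 0 < ord (algebraMap O (integralClosure O F) π) :=
    ord_algebraMap_pos (integers_injective O F) hπ
  set hT := ord (ιL.toRingHom (aeval α g)) with hhT
  set cE := ord (ιE.toRingHom πE) with hcE
  set eE := ord (algebraMap O (integralClosure O E) π) with heE
  have hEe : ord (algebraMap O (integralClosure O F) π) = eE * cE := by
    rw [hcE, heE, ← ord_map _ hιE hπE hπE0]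
    exact congrArg ord (ιE.commutes π).symm
  have hTe : ord (algebraMap O (integralClosure O F) π) = e * hT := by
    rw [hedef, hhT, ← ord_map _ hιL hirr hπS0]
    exact congrArg ord (ιL.commutes π).symm
  have heT : eE * cE = e * hT := hEe.symm.trans hTe
  have hTpos : 0 < hT ∧ 0 < cE := by
    have h1 := hposF
    rw [hTe] at h1
    rw [hEe] at hposF
    exact ⟨Nat.pos_of_mul_pos_left h1, Nat.pos_of_mul_pos_left hposF⟩
  have hprod : ∀ b : integralClosure O F,
      ∏ τ, (b - ιL.toRingHom (galInt τ α)) = aeval b (minpoly O α) := by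
    intro b
    rw [← eval_map_algebraMap, ← ιL.comp_algebraMap, ← Polynomial.map_map, minpoly_map_eq hadj,
      Polynomial.map_prod, eval_prod]
    simp
  have hmap : ∀ (p : O[X]), ιE.toRingHom (aeval β p) = aeval (ιE β) p := fun p =>
    (aeval_algHom_apply ιE β p).symm
  have hgev : (g.map (algebraMap O S)).eval₂ ιL.toRingHom (ιE β) = aeval (ιE β) g := by
    rw [eval₂_map, aeval_def]
    exact congrArg (fun h => eval₂ h (ιE β) g) ιL.comp_algebraMap
  have hgirr : ∀ τ, Irreducible ((g.map (algebraMap O S)).eval (galInt τ α)) := by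
    intro τ
    rw [eval_map_algebraMap, aeval_algHom_apply (galInt τ) α]
    exact (MulEquiv.irreducible_iff (galInt τ).toMulEquiv).2 hirr
  have hunit : IsUnit (1 + ϖ ^ s * q) := by
    by_contra h
    have hmem : ϖ ∈ 𝔪 (integralClosure O E) := by
      rw [IsLocalRing.mem_maximalIdeal, mem_nonunits_iff]
      intro hu
      have h1 := (ord_eq_zero_iff hπE0).2 (hϖ ▸ hu.pow N)
      rw [← heE] at h1
      have := hposF
      rw [hEe, h1] at this
      simp at this
    have h1 := sub_mem ((IsLocalRing.mem_maximalIdeal _).2 h)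
      (Ideal.mul_mem_right q _ (Ideal.pow_mem_of_mem _ hmem s hs0))
    rw [add_sub_cancel_right] at h1
    exact (IsLocalRing.maximalIdeal.isMaximal _).ne_top ((Ideal.eq_top_iff_one _).2 h1)
  obtain ⟨hf0, hg0, hgord, h', R, hh', hhT', hford, hfR⟩ :=
    ord_approx ιL.toRingHom hιL hirr hTpos.1 (fun τ => galInt τ α) i (galInt_ne hadj)
      (fun τ τ' _ => ord_galInt_sub hadj τ τ') (g.map (algebraMap O S)) hgirr hπS0 hedef.symm hN
      (by omega) hs0 hk hW heW hq
      (ϖ := ιE ϖ) (by
        rw [← map_pow, hϖ, ιE.commutes]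
        exact (ιL.commutes π).symm)
      (b := ιE β) (u := ιE.toRingHom (1 + ϖ ^ s * q)) (hunit.map _) (by
        rw [hprod, hgev, ← hmap, ← map_mul, hrel, map_mul, map_pow, map_pow, hmap]
        rfl)
  rw [hprod, ← hmap] at hf0 hford hfR
  rw [hgev, ← hmap] at hgord hg0
  have hfE : aeval β (minpoly O α) ≠ 0 := fun h => hf0 (by rw [h, map_zero])
  have hgE : aeval β g ≠ 0 := fun h => hg0 (by rw [h, map_zero])
  set v := ord (aeval β (minpoly O α)) with hv
  have hvc : v * cE = W * h' := by rw [hv, hcE, ← ord_map _ hιE hπE hfE]; exact hford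
  have hgc : ord (aeval β g) * cE = hT := by rw [hcE, ← ord_map _ hιE hπE hgE, hgord]
  rw [← hhT] at hhT'
  -- the inequality on valuations
  have hineq : (p - 1) * (va * eE) + eK * eE < (p - 1) * v := by
    refine Nat.lt_of_mul_lt_mul_right (a := cE) ?_
    rw [Nat.add_mul, mul_assoc (p - 1), mul_assoc va, mul_assoc eK, heT, hhT', mul_assoc (p - 1), hvc]
    have h1 : N * ((p - 1) * (e * va) + e * eK + 1) ≤ N * ((p - 1) * D) := Nat.mul_le_mul_left N hbig
    have h2 : (p - 1) * W + (p - 1) = N * ((p - 1) * D) := by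
      rw [show N * ((p - 1) * D) = (p - 1) * (N * D) by ring, show N * D = W + 1 by omega]; ring
    have h3 : N * ((p - 1) * (e * va) + e * eK) < (p - 1) * W := by
      rw [Nat.mul_add, Nat.mul_one] at h1
      omega
    calc (p - 1) * (va * (e * (N * h'))) + eK * (e * (N * h'))
        = N * ((p - 1) * (e * va) + e * eK) * h' := by ring
      _ < (p - 1) * W * h' := Nat.mul_lt_mul_of_pos_right h3 hh'
      _ = (p - 1) * (W * h') := by ring
  have hvE : va * eE ≤ v := by
    by_contra h
    have := Nat.mul_le_mul_left (p - 1) (Nat.le_of_lt (Nat.not_le.1 h))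
    omega
  obtain ⟨μ, hμ⟩ : ∃ μ, v = va * eE + μ := Nat.exists_eq_add_of_le hvE
  rw [hμ, Nat.mul_add] at hineq
  have hpe : ∀ {B : Type u} [CommRing B] [Algebra O B] [IsDomain B] [IsDiscreteValuationRing B],
      Function.Injective (algebraMap O B) →
      ord (p : B) = eK * ord (algebraMap O B π) ∧
        ord (algebraMap O B a) = va * ord (algebraMap O B π) := by
    intro B _ _ _ _ hinj
    constructor
    · rw [← map_natCast (algebraMap O B), ord_map _ hinj hπ (Nat.cast_ne_zero.2 (Fact.out : p.Prime).ne_zero), heK]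
    · rw [ord_map _ hinj hπ ha, hva]
  have hpE := hpe (integers_injective O E)
  have hpS := hpe (integers_injective O L)
  rw [← heE] at hpE
  rw [← hedef] at hpS
  have heEpos : 0 < eE := Nat.pos_of_ne_zero fun h => by
    have := heT; rw [h, zero_mul] at this
    exact (Nat.mul_pos he0 hTpos.1).ne' this.symm
  have hpm : ∀ {B : Type u} [CommRing B] [IsDomain B] [IsDiscreteValuationRing B] [CharZero B],
      0 < ord (p : B) → (p : B) ∈ 𝔪 B := by
    intro B _ _ _ _ h
    rw [← pow_one (𝔪 B)]
    exact (le_ord_iff (Nat.cast_ne_zero.2 (Fact.out : p.Prime).ne_zero)).1 h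
  obtain ⟨-, hliftE⟩ := hlift (integralClosure O E) (hpm (by rw [hpE.1]; positivity)) (integers_injective O E) μ
    (by rw [hpE.1]; omega)
  obtain ⟨hinjJ, -⟩ := hlift S (hpm (by rw [hpS.1]; positivity)) (integers_injective O L) (e * eK / (p - 1) + 1) (by
      rw [hpS.1, mul_comm eK e, Nat.mul_add, Nat.mul_one]
      have := Nat.lt_mul_div_succ (e * eK) (show 0 < p - 1 by omega)
      rwa [Nat.mul_add, Nat.mul_one] at this)
  -- the map to the quotient
  set Q : Ideal (integralClosure O E) :=
    Ideal.span {algebraMap O (integralClosure O E) a} * 𝔪 (integralClosure O E) ^ μ with hQ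
  have hfQ : aeval β (minpoly O α) ∈ Q := by
    rw [hQ, span_eq_pow_ord (fun h => ha (integers_injective O E (h.trans (map_zero _).symm))), hpE.2,
      ← pow_add, ← le_ord_iff hfE]
    omega
  have hker0 : ∀ c ∈ RingHom.ker (aeval (R := O) α), aeval (Ideal.Quotient.mk Q β) c = 0 := by
    intro c hc
    obtain ⟨d, rfl⟩ := minpoly.isIntegrallyClosed_dvd hint (RingHom.mem_ker.1 hc)
    rw [← Ideal.Quotient.mkₐ_eq_mk O, aeval_algHom_apply, Ideal.Quotient.mkₐ_eq_mk,
      Ideal.Quotient.eq_zero_iff_mem, map_mul]
    exact Ideal.mul_mem_right _ _ hfQ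
  have hsurj : Function.Surjective (aeval (R := O) α) := by
    intro z
    have hz : z ∈ Algebra.adjoin O {α} := hadj ▸ trivial
    rw [Algebra.adjoin_singleton_eq_range_aeval] at hz
    exact hz
  let ψ : S →ₐ[O] integralClosure O E ⧸ Q :=
    (Ideal.Quotient.liftₐ (RingHom.ker (aeval (R := O) α)) (aeval (Ideal.Quotient.mk Q β)) hker0).comp
      (Ideal.quotientKerAlgEquivOfSurjective hsurj).symm.toAlgHom
  have hψ : ∀ c : O[X], ψ (aeval α c) = Ideal.Quotient.mk Q (aeval β c) := by
    intro c
    have e1 : (Ideal.quotientKerAlgEquivOfSurjective hsurj).symm (aeval α c) =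
        Ideal.Quotient.mk (RingHom.ker (aeval (R := O) α)) c := by
      rw [AlgEquiv.symm_apply_eq]; rfl
    change Ideal.Quotient.liftₐ _ (aeval (Ideal.Quotient.mk Q β)) hker0
      ((Ideal.quotientKerAlgEquivOfSurjective hsurj).symm (aeval α c)) = _
    rw [e1]
    exact aeval_algHom_apply (Ideal.Quotient.mkₐ O Q) β c
  have hLE : L ≤ E := by
    refine le_of_approx hL E hliftE hinjJ ψ fun z hz => ?_
    by_contra hzJ
    set k' := e * eK / (p - 1) with hk'
    have hz0 : z ≠ 0 := fun h => hzJ (h ▸ zero_mem _)
    have hzk : ord z ≤ k' := by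
      by_contra h
      exact hzJ ((le_ord_iff hz0).1 (by omega))
    obtain ⟨w, hw⟩ : z ∣ aeval α g ^ k' := dvd_of_ord_le hz0 (pow_ne_zero _ hirr.ne_zero)
      (by rw [ord_pow hirr.ne_zero, ord_irreducible hirr, mul_one]; exact hzk)
    have h1 : Ideal.Quotient.factor (Ideal.mul_le_right
        (I := Ideal.span {algebraMap O (integralClosure O E) a}) (J := 𝔪 (integralClosure O E) ^ μ))
        (ψ (aeval α g ^ k')) = 0 := by
      rw [hw, map_mul, map_mul, hz, zero_mul]
    rw [← map_pow, hψ, Ideal.Quotient.factor_mk, Ideal.Quotient.eq_zero_iff_mem, map_pow,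
      ← le_ord_iff (pow_ne_zero _ hgE), ord_pow hgE] at h1
    have h2 := Nat.mul_le_mul_left (p - 1) h1
    have h3 : (p - 1) * k' ≤ e * eK := Nat.mul_div_le _ _
    have h4 : eK * eE * cE < (p - 1) * μ * cE := Nat.mul_lt_mul_of_pos_right (by omega) hTpos.2
    have h5 : (p - 1) * μ * cE ≤ eK * eE * cE := by
      calc (p - 1) * μ * cE ≤ (p - 1) * (k' * ord (aeval β g)) * cE := Nat.mul_le_mul_right _ h2
        _ = (p - 1) * k' * hT := by rw [← hgc]; ring
        _ ≤ e * eK * hT := Nat.mul_le_mul_right _ h3
        _ = eK * eE * cE := by rw [mul_assoc eK, heT]; ring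
    omega
  -- the degree of the compositum
  have hhN : hT ≤ N := by
    refine ord_map_le_of_finrank ιL hιL hirr ?_
    rw [integers_finrank, integers_finrank]
    have h2 : Module.finrank (FractionRing O) F = Module.finrank (FractionRing O) E := by
      rw [show F = E from sup_eq_left.2 hLE]
    have h3 : (minpoly O α).natDegree = Module.finrank (FractionRing O) L := by
      have := congrArg natDegree (minpoly_map_eq hadj)
      rw [(minpoly.monic hint).natDegree_map, natDegree_prod_of_monic _ _ fun _ _ => monic_X_sub_C _] at this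
      simp only [natDegree_X_sub_C, Finset.sum_const, Finset.card_univ, smul_eq_mul, mul_one] at this
      rw [this, ← Nat.card_eq_fintype_card, IsGalois.card_aut_eq_finrank]
    rw [h3, mul_comm N] at hEdeg
    exact h2 ▸ hEdeg
  have hh1 : h' = 1 := by
    rcases Nat.lt_or_ge 1 h' with h | h
    · have : N * 2 ≤ N * h' := Nat.mul_le_mul_left N h
      omega
    · omega
  rw [hh1, mul_one] at hhT' hford
  rw [hford, ← hhT, hhT'] at hfR
  refine no_solution U i ⟨τm, hτm, rfl⟩ hmax ?_ hN.two_le (R := R) (by rw [← hfR, ← hD]; omega)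
  by_contra h
  have h1 : ∑ τ ∈ U, i τ = 0 := Finset.sum_eq_zero fun τ hτ => by have := hmax τ hτ; omega
  omega

end FontaineLib
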