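import Groth.Prelude.Def_W4c1noabschz1DP
import Groth.Agent.CompleteLib.Basic
import Mathlib.RingTheory.Filtration
import Mathlib.RingTheory.HopkinsLevitzki

/-! The filtration of a divided power ideal by its divided power ideals. -/

universe u v

open W4c1noabschz1 (dpPow IsDPTopNilpotent)
open IsLocalRing

namespace FontaineLib

variable {S : Type u} [CommRing S] {I : Ideal S} (hI : DividedPowers I)

theorem dpPow_zero : dpPow hI 0 = ⊤ := by
  rw [Ideal.eq_top_iff_one]
  exact Ideal.subset_span ⟨0, Fin.elim0, Fin.elim0, fun i => i.elim0, Nat.zero_le _, by simp⟩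

theorem dpPow_antitone : Antitone (dpPow hI) := by
  intro m n hmn
  refine Ideal.span_mono ?_
  rintro z ⟨r, x, e, hx, he, rfl⟩
  exact ⟨r, x, e, hx, hmn.trans he, rfl⟩

theorem mul_mem_dpPow {m n : ℕ} {a b : S} (ha : a ∈ dpPow hI m) (hb : b ∈ dpPow hI n) :
    a * b ∈ dpPow hI (m + n) := by
  suffices dpPow hI m * dpPow hI n ≤ dpPow hI (m + n) from this (Ideal.mul_mem_mul ha hb)
  rw [dpPow, dpPow, Ideal.span_mul_span', Ideal.span_le]
  rintro _ ⟨_, ⟨r, x, e, hx, he, rfl⟩, _, ⟨r', x', e', hx', he', rfl⟩, rfl⟩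
  refine Ideal.subset_span ⟨r + r', Fin.append x x', Fin.append e e', ?_, ?_, ?_⟩
  · intro i
    induction i using Fin.addCases with
    | left i => simpa using hx i
    | right i => simpa using hx' i
  · rw [Fin.sum_univ_add]
    simp only [Fin.append_left, Fin.append_right]
    omega
  · rw [Fin.prod_univ_add]
    simp only [Fin.append_left, Fin.append_right]

theorem dpow_mem_dpPow_self {x : S} (hx : x ∈ I) (n : ℕ) : hI.dpow n x ∈ dpPow hI n :=
  Ideal.subset_span ⟨1, fun _ => x, fun _ => n, fun _ => hx, by simp, by simp⟩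

theorem dpPow_le {m : ℕ} (hm : 1 ≤ m) : dpPow hI m ≤ I := by
  rw [dpPow, Ideal.span_le]
  rintro _ ⟨r, x, e, hx, he, rfl⟩
  obtain ⟨i, hi⟩ : ∃ i, e i ≠ 0 := by
    by_contra h
    push Not at h
    simp [h] at he
    omega
  exact Ideal.mem_of_dvd _ (Finset.dvd_prod_of_mem _ (Finset.mem_univ i))
    (hI.dpow_mem hi (hx i))

theorem dpPow_one : dpPow hI 1 = I :=
  le_antisymm (dpPow_le hI le_rfl) fun x hx => by
    simpa [hI.dpow_one hx] using dpow_mem_dpPow_self hI hx 1

theorem pow_mem_dpPow {x : S} (hx : x ∈ I) (n : ℕ) : x ^ n ∈ dpPow hI n := by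
  rw [← hI.factorial_mul_dpow_eq_pow hx]
  exact Ideal.mul_mem_left _ _ (dpow_mem_dpPow_self hI hx n)

theorem pow_dpPow {x : S} {k : ℕ} (hx : x ∈ dpPow hI k) (n : ℕ) : x ^ n ∈ dpPow hI (n * k) := by
  induction n with
  | zero => simp [dpPow_zero]
  | succ n ih => rw [pow_succ, Nat.add_mul, one_mul]; exact mul_mem_dpPow hI ih hx

/-- Divided powers respect the filtration. -/
theorem dpow_mem_dpPow {k : ℕ} (hk : 1 ≤ k) (n : ℕ) {x : S} (hx : x ∈ dpPow hI k) :
    hI.dpow n x ∈ dpPow hI (n * k) := by
  induction hx using Submodule.span_induction generalizing n with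
  | mem z hz =>
    obtain ⟨r, x, e, hx, he, rfl⟩ := hz
    obtain ⟨i, hi⟩ : ∃ i, e i ≠ 0 := by
      by_contra h
      push Not at h
      simp [h] at he
      omega
    have hrest : ∏ j ∈ Finset.univ.erase i, hI.dpow (e j) (x j) ∈
        dpPow hI (∑ j ∈ Finset.univ.erase i, e j) := by
      clear hi
      induction (Finset.univ.erase i) using Finset.induction with
      | empty => simp [dpPow_zero]
      | insert j s hj ih =>
        rw [Finset.prod_insert hj, Finset.sum_insert hj]
        exact mul_mem_dpPow hI (dpow_mem_dpPow_self hI (hx j) _) ih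
    rw [← Finset.mul_prod_erase Finset.univ _ (Finset.mem_univ i),
      hI.dpow_mul_right (hI.dpow_mem hi (hx i)), hI.dpow_comp hi (hx i)]
    have h := mul_mem_dpPow hI (Ideal.mul_mem_left _ ((Nat.uniformBell n (e i) : ℕ) : S)
      (dpow_mem_dpPow_self hI (hx i) (n * e i))) (pow_dpPow hI hrest n)
    refine dpPow_antitone hI ?_ h
    rw [← Nat.mul_add, Finset.add_sum_erase Finset.univ e (Finset.mem_univ i)]
    exact Nat.mul_le_mul_left n he
  | zero =>
    rcases Nat.eq_zero_or_pos n with h | h
    · subst h; simp [dpPow_zero]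
    · rw [hI.dpow_eval_zero h.ne']; exact zero_mem _
  | add x y hx' hy' hx hy =>
    rw [hI.dpow_add (dpPow_le hI hk hx') (dpPow_le hI hk hy')]
    refine sum_mem fun c hc => ?_
    rw [Finset.mem_antidiagonal] at hc
    rw [← hc, Nat.add_mul]
    exact mul_mem_dpPow hI (hx _) (hy _)
  | smul a x hx' hx =>
    rw [smul_eq_mul, hI.dpow_mul (dpPow_le hI hk hx')]
    exact Ideal.mul_mem_left _ _ (hx n)

section Complete

variable {O : Type v} [CommRing O] [IsLocalRing O] [IsNoetherianRing O]
  [IsAdicComplete (maximalIdeal O) O] [Algebra O S] [Module.Finite O S]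

variable (O) in
/-- The powers of the maximal ideal of the base. -/
noncomputable def mPow (S : Type u) [CommRing S] [Algebra O S] (N : ℕ) : Ideal S :=
  (maximalIdeal O ^ N).map (algebraMap O S)

omit [IsNoetherianRing O] [IsAdicComplete (maximalIdeal O) O] [Module.Finite O S] in
theorem mem_mPow_iff {N : ℕ} {x : S} :
    x ∈ mPow O S N ↔ x ∈ (maximalIdeal O ^ N • ⊤ : Submodule O S) := by
  rw [Ideal.smul_top_eq_map, Submodule.restrictScalars_mem]
  rfl

omit [IsNoetherianRing O] [IsAdicComplete (maximalIdeal O) O] [Module.Finite O S] in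
theorem mPow_antitone : Antitone (mPow O S) := fun _ _ h => Ideal.map_mono (Ideal.pow_le_pow_right h)

omit [IsAdicComplete (maximalIdeal O) O] in
/-- Ideals of a finite algebra over a local Noetherian ring are closed. -/
theorem mem_of_forall_mem_sup (J : Ideal S) {x : S} (h : ∀ N, x ∈ J ⊔ mPow O S N) : x ∈ J := by
  have h0 := Ideal.iInf_pow_smul_eq_bot_of_isLocalRing (M := S ⧸ J) (maximalIdeal O)
    (IsLocalRing.maximalIdeal.isMaximal O).ne_top
  rw [← Ideal.Quotient.eq_zero_iff_mem]
  have : Ideal.Quotient.mk J x ∈ (⊥ : Submodule O (S ⧸ J)) := by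
    rw [← h0, Submodule.mem_iInf]
    intro N
    obtain ⟨y, hy, z, hz, rfl⟩ := Submodule.mem_sup.1 (h N)
    rw [map_add, Ideal.Quotient.eq_zero_iff_mem.2 hy, zero_add]
    rw [mem_mPow_iff] at hz
    have := Submodule.mem_map_of_mem (f := (Ideal.Quotient.mkₐ O J).toLinearMap) hz
    rw [Submodule.map_smul''] at this
    exact Submodule.smul_mono le_rfl le_top this
  exact (Submodule.mem_bot O).1 this

/-- A Cauchy sequence has a limit. -/
theorem exists_limit (f : ℕ → S) (hf : ∀ N, f (N + 1) - f N ∈ mPow O S N) :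
    ∃ L : S, ∀ N, L - f N ∈ mPow O S N := by
  haveI : IsAdicComplete (maximalIdeal O) S := CompleteLib.isAdicComplete_of_finite
  have hle : ∀ {m n}, m ≤ n → f n - f m ∈ mPow O S m := by
    intro m n hmn
    induction n, hmn using Nat.le_induction with
    | base => simp
    | succ n hmn ih =>
      rw [← sub_add_sub_cancel (f (n + 1)) (f n) (f m)]
      exact add_mem (mPow_antitone hmn (hf n)) ih
  obtain ⟨L, hL⟩ := IsPrecomplete.prec (I := maximalIdeal O) (M := S) inferInstance (f := f)
    fun {m n} hmn => by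
      rw [SModEq.sub_mem, ← mem_mPow_iff, ← neg_sub]
      exact neg_mem (hle hmn)
  refine ⟨L, fun N => ?_⟩
  have := SModEq.sub_mem.1 (hL N)
  rw [← mem_mPow_iff] at this
  rw [← neg_sub]
  exact neg_mem this

/-- Chevalley's lemma for the divided power filtration. -/
theorem exists_dpPow_le (htn : IsDPTopNilpotent hI) (N : ℕ) :
    ∃ k, dpPow hI k ≤ mPow O S N := by
  have hstab : ∀ N, ∃ k, ∀ k', k ≤ k' → dpPow hI k ⊔ mPow O S N ≤ dpPow hI k' ⊔ mPow O S N := by
    intro N
    rcases Nat.eq_zero_or_pos N with h | h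
    · refine ⟨0, fun k' _ => ?_⟩
      have : mPow O S N = ⊤ := by subst h; simp [mPow, Ideal.map_top]
      rw [this]; simp
    haveI : IsArtinianRing (O ⧸ maximalIdeal O ^ N) := by
      have hne : maximalIdeal O ^ N ≠ ⊤ := ne_top_of_le_ne_top
        (IsLocalRing.maximalIdeal.isMaximal O).ne_top (Ideal.pow_le_self h.ne')
      haveI : Nontrivial (O ⧸ maximalIdeal O ^ N) := Ideal.Quotient.nontrivial_iff.2 hne
      haveI : IsLocalRing (O ⧸ maximalIdeal O ^ N) :=
        IsLocalRing.of_surjective' (Ideal.Quotient.mk _) Ideal.Quotient.mk_surjective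
      haveI : IsNoetherianRing (O ⧸ maximalIdeal O ^ N) :=
        isNoetherianRing_of_surjective O _ (Ideal.Quotient.mk _) Ideal.Quotient.mk_surjective
      rw [isArtinianRing_iff_isNilpotent_maximalIdeal]
      refine ⟨N, ?_⟩
      rw [← map_maximalIdeal_of_surjective _ Ideal.Quotient.mk_surjective, ← Ideal.map_pow,
        Ideal.map_quotient_self]
      rfl
    haveI : IsArtinianRing (S ⧸ mPow O S N) := by
      show IsArtinianRing (S ⧸ (maximalIdeal O ^ N).map (algebraMap O S))
      haveI : Module.Finite (O ⧸ maximalIdeal O ^ N)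
          (S ⧸ (maximalIdeal O ^ N).map (algebraMap O S)) :=
        Module.Finite.of_restrictScalars_finite O _ _
      exact IsArtinianRing.of_finite (O ⧸ maximalIdeal O ^ N) _
    let F : ℕ →o (Ideal (S ⧸ mPow O S N))ᵒᵈ :=
      ⟨fun k => OrderDual.toDual ((dpPow hI k).map (Ideal.Quotient.mk _)),
        fun _ _ hab => Ideal.map_mono (dpPow_antitone hI hab)⟩
    obtain ⟨k, hk⟩ := IsArtinian.monotone_stabilizes F
    refine ⟨k, fun k' hk' => le_of_eq ?_⟩
    have := congrArg (fun J : (Ideal (S ⧸ mPow O S N))ᵒᵈ =>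
      Ideal.comap (Ideal.Quotient.mk (mPow O S N)) (OrderDual.ofDual J)) (hk k' hk')
    change ((dpPow hI k).map (Ideal.Quotient.mk (mPow O S N))).comap (Ideal.Quotient.mk (mPow O S N)) =
      ((dpPow hI k').map (Ideal.Quotient.mk (mPow O S N))).comap (Ideal.Quotient.mk (mPow O S N)) at this
    simpa [Ideal.comap_map_of_surjective _ Ideal.Quotient.mk_surjective,
      ← RingHom.ker_eq_comap_bot] using this
  choose κ hκ using hstab
  refine ⟨κ N, fun x hx => ?_⟩
  let K : ℕ → ℕ := fun M => max (κ M) (κ (M + 1))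
  have hstep : ∀ M (y : S), y ∈ dpPow hI (κ M) ⊔ mPow O S M →
      ∃ z, z ∈ dpPow hI (κ (M + 1)) ⊔ mPow O S (M + 1) ∧ z - y ∈ mPow O S M := by
    intro M y hy
    obtain ⟨z, hz, w, hw, rfl⟩ := Submodule.mem_sup.1 (hκ M (K M) (le_max_left _ _) hy)
    exact ⟨z, Ideal.mem_sup_left (dpPow_antitone hI (le_max_right _ _) hz), by simpa using neg_mem hw⟩
  choose! g hg hg' using hstep
  let sq : ℕ → S := fun j => Nat.rec x (fun j y => g (N + j) y) j
  have hsq : ∀ j, sq j ∈ dpPow hI (κ (N + j)) ⊔ mPow O S (N + j) := by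
    intro j
    induction j with
    | zero => exact Ideal.mem_sup_left hx
    | succ j ih => exact hg _ _ ih
  obtain ⟨L, hL⟩ := exists_limit (O := O) (fun j => sq (j - N)) (fun j => by
    rcases Nat.lt_or_ge j N with h | h
    · rw [show j + 1 - N = 0 by omega, show j - N = 0 by omega, sub_self]; exact zero_mem _
    · rw [show j + 1 - N = (j - N) + 1 by omega]
      have h2 := hg' _ _ (hsq (j - N))
      rw [show N + (j - N) = j by omega] at h2
      show g (N + (j - N)) (sq (j - N)) - sq (j - N) ∈ _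
      rw [show N + (j - N) = j by omega]
      exact h2)
  have hL0 : L = 0 := by
    rw [← Ideal.mem_bot, ← htn, Submodule.mem_iInf]
    intro k
    refine mem_of_forall_mem_sup (O := O) _ fun M => ?_
    have h1 := hsq (M + N - N)
    rw [Nat.add_sub_cancel] at h1
    have h2 : sq M ∈ dpPow hI k ⊔ mPow O S M := by
      have := hκ (N + M) (max k (κ (N + M))) (le_max_right _ _) h1
      exact sup_le_sup (dpPow_antitone hI (le_max_left _ _)) (mPow_antitone (by omega)) this
    have h3 := mPow_antitone (O := O) (Nat.le_add_right M N) (hL (M + N))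
    rw [Nat.add_sub_cancel] at h3
    rw [show L = sq M + (L - sq M) by ring]
    exact add_mem h2 (Ideal.mem_sup_right h3)
  have := hL N
  rw [hL0, Nat.sub_self, zero_sub] at this
  simpa [sq] using this

/-- A topologically nilpotent divided power ideal lies in the radical of the maximal ideal. -/
theorem le_radical (htn : IsDPTopNilpotent hI) : I ≤ (mPow O S 1).radical := by
  obtain ⟨k, hk⟩ := exists_dpPow_le (O := O) hI htn 1
  exact fun x hx => ⟨k, hk (pow_mem_dpPow hI hx k)⟩

end Complete

end FontaineLib
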