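import Groth.Agent.FontaineLib.DVRVal
import Groth.Agent.DimOneDvr.Complete
import Mathlib.RingTheory.DedekindDomain.IntegralClosure
import Mathlib.RingTheory.RamificationInertia.Ramification

/-! Rings of integers in finite extensions, and the ramification estimates. -/

set_option linter.unusedSectionVars false

universe u

open IsLocalRing IsDiscreteValuationRing
local notation "𝔪" => IsLocalRing.maximalIdeal

namespace FontaineLib

section IntegralClosure

variable (O : Type u) [CommRing O] [IsDomain O] [IsDiscreteValuationRing O]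
  [IsAdicComplete (𝔪 O) O] [CharZero O]
  (E : Type u) [Field E] [Algebra (FractionRing O) E] [Algebra O E]
  [IsScalarTower O (FractionRing O) E] [FiniteDimensional (FractionRing O) E]
  [Algebra.IsSeparable (FractionRing O) E]

theorem integers_injective : Function.Injective (algebraMap O (integralClosure O E)) := fun a b h =>
  IsFractionRing.injective O (FractionRing O) ((algebraMap (FractionRing O) E).injective (by
    rw [← IsScalarTower.algebraMap_apply, ← IsScalarTower.algebraMap_apply]
    exact congrArg Subtype.val h))

theorem integers_finite : Module.Finite O (integralClosure O E) :=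
  IsIntegralClosure.finite O (FractionRing O) E (integralClosure O E)

theorem integers_isTorsionFree : Module.IsTorsionFree O (integralClosure O E) :=
  Module.isTorsionFree_iff_algebraMap_injective.2 (integers_injective O E)

theorem integers_flat : Module.Flat O (integralClosure O E) :=
  haveI := integers_isTorsionFree O E
  IsDedekindDomain.flat_iff_torsion_eq_bot.2 (Submodule.isTorsionFree_iff_torsion_eq_bot.1 inferInstance)

theorem integers_charZero : CharZero (integralClosure O E) :=
  ⟨fun a b h => Nat.cast_injective (R := O) (integers_injective O E (by simpa using h))⟩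

theorem integers_dvr : IsDiscreteValuationRing (integralClosure O E) := by
  haveI := integers_finite O E
  haveI : IsDedekindDomain (integralClosure O E) :=
    IsIntegralClosure.isDedekindDomain O (FractionRing O) E (integralClosure O E)
  haveI : IsLocalRing (integralClosure O E) := DimOneDvr.isLocalRing_of_finite_domain (A := O)
  have hnf : ¬ IsField (integralClosure O E) := fun h =>
    IsDiscreteValuationRing.not_isField O
      ((Algebra.IsIntegral.isField_iff_isField (integers_injective O E)).2 h)
  exact ((IsDiscreteValuationRing.TFAE (integralClosure O E) hnf).out 0 2).2 ‹IsDedekindDomain (integralClosure O E)›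

theorem integers_finrank :
    Module.finrank O (integralClosure O E) = Module.finrank (FractionRing O) E :=
  haveI := integers_isTorsionFree O E
  haveI : Module.IsTorsionFree O E := Module.isTorsionFree_iff_algebraMap_injective.2 fun a b h =>
    IsFractionRing.injective O (FractionRing O) ((algebraMap (FractionRing O) E).injective (by
      rw [← IsScalarTower.algebraMap_apply, ← IsScalarTower.algebraMap_apply]; exact h))
  IsIntegralClosure.rank O (FractionRing O) E (integralClosure O E)

end IntegralClosure

section Extension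

variable {S T : Type u} [CommRing S] [IsDomain S] [IsDiscreteValuationRing S]
  [CommRing T] [IsDomain T] [IsDiscreteValuationRing T]

theorem ord_map (f : S →+* T) (hf : Function.Injective f) {π : S} (hπ : Irreducible π)
    {x : S} (hx : x ≠ 0) : ord (f x) = ord x * ord (f π) := by
  obtain ⟨k, u, rfl⟩ := IsDiscreteValuationRing.eq_unit_mul_pow_irreducible hx hπ
  have hfπ : f π ≠ 0 := fun h => hπ.ne_zero (hf (h.trans (map_zero f).symm))
  have hu : IsUnit (f (u : S)) := u.isUnit.map f
  have hπ1 : ord π = 1 := by simp [ord, addVal_uniformizer hπ]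
  rw [map_mul, map_pow, ord_mul hu.ne_zero (pow_ne_zero _ hfπ), (ord_eq_zero_iff hu.ne_zero).2 hu,
    ord_pow hfπ, ord_mul u.ne_zero (pow_ne_zero _ hπ.ne_zero), (ord_eq_zero_iff u.ne_zero).2 u.isUnit,
    ord_pow hπ.ne_zero, hπ1]
  ring

theorem ord_algebraMap_pos [Algebra S T] [Algebra.IsIntegral S T]
    (hinj : Function.Injective (algebraMap S T)) {π : S} (hπ : Irreducible π) :
    0 < ord (algebraMap S T π) := by
  have h0 : algebraMap S T π ≠ 0 := fun h => hπ.ne_zero (hinj (h.trans (map_zero _).symm))
  refine Nat.pos_of_ne_zero fun h => hπ.not_isUnit ?_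
  haveI : IsLocalHom (algebraMap S T) := RingHom.IsIntegral.isLocalHom
    (algebraMap_isIntegral_iff.2 inferInstance) hinj
  exact isUnit_of_map_unit _ π ((ord_eq_zero_iff h0).1 h)

/-- A sum of non-zero terms with distinct valuations has the smallest valuation. -/
theorem exists_ord_sum {ι : Type*} (s : Finset ι) (hs : s.Nonempty) (g : ι → T) (h0 : ∀ i ∈ s, g i ≠ 0)
    (hinj : Set.InjOn (fun i => ord (g i)) s) :
    ∑ i ∈ s, g i ≠ 0 ∧ ∃ i ∈ s, ord (∑ i ∈ s, g i) = ord (g i) := by
  classical
  induction hs using Finset.Nonempty.cons_induction with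
  | singleton a => simpa using h0 a (by simp)
  | cons a s ha hs ih =>
    obtain ⟨h1, i, hi, hie⟩ := ih (fun i hi => h0 i (Finset.mem_cons_of_mem hi))
      (hinj.mono (by intro x hx; simp at hx ⊢; exact Or.inr hx))
    have ha0 := h0 a (Finset.mem_cons_self a s)
    have hne : ord (g a) ≠ ord (∑ i ∈ s, g i) := by
      rw [hie]
      intro h
      exact ha (hinj (by simp) (by simp [hi]) h ▸ hi)
    rw [Finset.sum_cons]
    have h2 : g a + ∑ i ∈ s, g i ≠ 0 := fun h => hne (by
      rw [eq_neg_of_add_eq_zero_left h]; simp [ord, AddValuation.map_neg])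
    refine ⟨h2, ?_⟩
    have h3 := min_ord_le_ord_add ha0 h1 h2
    have h4 : ord (g a + ∑ i ∈ s, g i) = min (ord (g a)) (ord (∑ i ∈ s, g i)) := by
      have hn : ∀ x : T, ord (-x) = ord x := fun x => by simp [ord, AddValuation.map_neg]
      have h5 := min_ord_le_ord_add h2 (neg_ne_zero.2 h1) (by simpa using ha0)
      have h6 := min_ord_le_ord_add h2 (neg_ne_zero.2 ha0) (by simpa using h1)
      rw [add_neg_cancel_right, hn] at h5
      rw [show g a + ∑ i ∈ s, g i + -g a = ∑ i ∈ s, g i by ring, hn] at h6
      omega
    rcases Nat.lt_or_ge (ord (g a)) (ord (∑ i ∈ s, g i)) with h | h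
    · exact ⟨a, Finset.mem_cons_self a s, by rw [h4, min_eq_left h.le]⟩
    · exact ⟨i, Finset.mem_cons_of_mem hi, by rw [h4, min_eq_right h, hie]⟩

/-- The ramification index is at most the degree. -/
theorem ord_algebraMap_le_finrank [Algebra S T] [Module.Finite S T]
    (hinj : Function.Injective (algebraMap S T)) {π : S} (hπ : Irreducible π) :
    ord (algebraMap S T π) ≤ Module.finrank S T := by
  classical
  obtain ⟨ϖ, hϖ⟩ := exists_irreducible T
  set h := ord (algebraMap S T π) with hh
  have hϖ1 : ord ϖ = 1 := by simp [ord, addVal_uniformizer hϖ]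
  have hli : LinearIndependent S fun l : Fin h => ϖ ^ (l : ℕ) := by
    rw [Fintype.linearIndependent_iff]
    intro c hc
    by_contra hne
    push Not at hne
    obtain ⟨l₀, hl₀⟩ := hne
    let s : Finset (Fin h) := Finset.univ.filter fun l => c l ≠ 0
    have hsum : ∑ l ∈ s, algebraMap S T (c l) * ϖ ^ (l : ℕ) = 0 := by
      refine Eq.trans ?_ hc
      refine (Finset.sum_subset (Finset.filter_subset _ _) fun l _ hl => ?_).trans
        (Finset.sum_congr rfl fun l _ => (Algebra.smul_def _ _).symm)
      simp only [s, Finset.mem_filter, Finset.mem_univ, true_and, ne_eq, not_not] at hl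
      simp [hl]
    have hord : ∀ l ∈ s, ord (algebraMap S T (c l) * ϖ ^ (l : ℕ)) = ord (c l) * h + l := by
      intro l hl
      have hc0 : c l ≠ 0 := (Finset.mem_filter.1 hl).2
      rw [ord_mul (fun e => hc0 (hinj (e.trans (map_zero _).symm))) (pow_ne_zero _ hϖ.ne_zero),
        ord_map _ hinj hπ hc0, ord_pow hϖ.ne_zero, hϖ1, mul_one]
    refine (exists_ord_sum s ⟨l₀, Finset.mem_filter.2 ⟨Finset.mem_univ _, hl₀⟩⟩ _ (fun l hl => ?_)
      (fun l hl l' hl' e => ?_)).1 hsum
    · exact mul_ne_zero (fun e => (Finset.mem_filter.1 hl).2 (hinj (e.trans (map_zero _).symm)))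
        (pow_ne_zero _ hϖ.ne_zero)
    · simp only [hord l hl, hord l' hl'] at e
      have e' := congrArg (· % h) e
      simp only [Nat.mul_add_mod_self_right, Nat.mod_eq_of_lt l.isLt, Nat.mod_eq_of_lt l'.isLt] at e'
      exact Fin.ext e'
  simpa using hli.fintype_card_le_finrank

/-- The ramification index of the maximal ideal is the valuation of a uniformizer. -/
theorem ramificationIdx_eq_ord [Algebra S T] [Algebra.IsIntegral S T] [Module.IsTorsionFree S T]
    {π : S} (hπ : Irreducible π) :
    (𝔪 T).ramificationIdx S = ord (algebraMap S T π) := by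
  have hinj := Module.isTorsionFree_iff_algebraMap_injective.1 (inferInstance : Module.IsTorsionFree S T)
  haveI : IsLocalHom (algebraMap S T) := RingHom.IsIntegral.isLocalHom
    (algebraMap_isIntegral_iff.2 inferInstance) hinj
  haveI : (𝔪 T).LiesOver (𝔪 S) :=
    ⟨by ext x; simp [Ideal.mem_comap, Ideal.under]⟩
  rw [← Ideal.ramificationIdx'_eq_ramificationIdx (𝔪 S) (𝔪 T)
    (IsDiscreteValuationRing.not_a_field S)]
  have h0 : algebraMap S T π ≠ 0 := fun h => hπ.ne_zero (hinj (h.trans (map_zero _).symm))
  have hk : ∀ k, (𝔪 S).map (algebraMap S T) ≤ 𝔪 T ^ k ↔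
      k ≤ ord (algebraMap S T π) := by
    intro k
    rw [hπ.maximalIdeal_eq, Ideal.map_span, Set.image_singleton, Ideal.span_singleton_le_iff_mem,
      le_ord_iff h0]
  refine Ideal.ramificationIdx'_spec ((hk _).2 le_rfl) fun h => ?_
  have := (hk _).1 h
  omega

end Extension

end FontaineLib
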