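import Groth.Agent.FontaineLib.DVRVal
import Groth.Agent.FontaineLib.DPFilt
import Groth.Agent.FontaineLib.Ext
import Mathlib.RingTheory.Bialgebra.Convolution
import Mathlib.RingTheory.Bialgebra.TensorProduct

/-! `p`-th roots in the convolution ring of a coalgebra with values in a discrete valuation ring. -/

set_option linter.unusedSectionVars false

universe u v

open IsLocalRing IsDiscreteValuationRing WithConv Coalgebra
open scoped TensorProduct

local notation "𝔪" => IsLocalRing.maximalIdeal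

namespace FontaineLib

variable {O : Type u} [CommRing O] {S : Type u} [CommRing S] [IsDomain S] [IsDiscreteValuationRing S]
  [Algebra O S] {C : Type v} [AddCommGroup C] [Module O C] [Coalgebra O C] [IsCocomm O C]

/-- The linear maps with values in a power of the maximal ideal. -/
noncomputable def convJ (O : Type u) [CommRing O] (S : Type u) [CommRing S] [IsDomain S]
    [IsDiscreteValuationRing S] [Algebra O S] (C : Type v) [AddCommGroup C] [Module O C] [Coalgebra O C]
    [IsCocomm O C] (N : ℕ) : Ideal (WithConv (C →ₗ[O] S)) where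
  carrier := {f | ∀ x, f x ∈ 𝔪 S ^ N}
  zero_mem' _ := zero_mem _
  add_mem' hf hg x := add_mem (hf x) (hg x)
  smul_mem' g f hf x := by
    rw [smul_eq_mul, (ℛ O x).convMul_apply]
    exact sum_mem fun i _ => Ideal.mul_mem_left _ _ (hf _)

theorem mem_convJ {N : ℕ} {f : WithConv (C →ₗ[O] S)} : f ∈ convJ O S C N ↔ ∀ x, f x ∈ 𝔪 S ^ N := Iff.rfl

theorem convJ_anti {M N : ℕ} (h : M ≤ N) : convJ O S C N ≤ convJ O S C M :=
  fun _ hf x => Ideal.pow_le_pow_right h (hf x)

theorem convJ_mul {M N : ℕ} {f g : WithConv (C →ₗ[O] S)} (hf : f ∈ convJ O S C M) (hg : g ∈ convJ O S C N) :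
    f * g ∈ convJ O S C (M + N) := fun x => by
  rw [(ℛ O x).convMul_apply, pow_add]
  exact sum_mem fun i _ => Ideal.mul_mem_mul (hf _) (hg _)

theorem convJ_pow {N : ℕ} {f : WithConv (C →ₗ[O] S)} (hf : f ∈ convJ O S C N) :
    ∀ k, f ^ (k + 1) ∈ convJ O S C ((k + 1) * N)
  | 0 => by simpa using hf
  | k + 1 => by
    rw [pow_succ, show (k + 1 + 1) * N = (k + 1) * N + N by ring]
    exact convJ_mul (convJ_pow hf k) hf

theorem eq_zero_of_forall_mem_convJ {f : WithConv (C →ₗ[O] S)} (h : ∀ N, f ∈ convJ O S C N) : f = 0 := by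
  have h0 := Ideal.iInf_pow_eq_bot_of_isLocalRing (𝔪 S) (IsLocalRing.maximalIdeal.isMaximal S).ne_top
  refine WithConv.ext (LinearMap.ext fun x => ?_)
  have : f x ∈ (⊥ : Ideal S) := h0 ▸ Submodule.mem_iInf _ |>.2 fun N => h N x
  exact (Submodule.mem_bot S).1 this

variable (p : ℕ) [hpr : Fact p.Prime]

theorem natCast_apply_mul (n : ℕ) (f : WithConv (C →ₗ[O] S)) (x : C) :
    ((n : WithConv (C →ₗ[O] S)) * f) x = (n : S) * f x := by
  rw [← nsmul_eq_mul, ← nsmul_eq_mul]; rfl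

theorem natCast_mul_mem {N : ℕ} {f : WithConv (C →ₗ[O] S)} (hp0 : (p : S) ≠ 0) (hf : f ∈ convJ O S C N) :
    (p : WithConv (C →ₗ[O] S)) * f ∈ convJ O S C (N + ord (p : S)) := fun x => by
  rw [natCast_apply_mul, add_comm N, pow_add]
  exact Ideal.mul_mem_mul ((le_ord_iff hp0).1 le_rfl) (hf x)

theorem mem_of_natCast_mul_mem {N : ℕ} {f : WithConv (C →ₗ[O] S)} (hp0 : (p : S) ≠ 0)
    (hf : (p : WithConv (C →ₗ[O] S)) * f ∈ convJ O S C (N + ord (p : S))) : f ∈ convJ O S C N := by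
  intro x
  have h := hf x
  rw [natCast_apply_mul] at h
  rcases eq_or_ne (f x) 0 with h0 | h0
  · exact h0 ▸ zero_mem _
  · rw [← le_ord_iff h0]
    rw [← le_ord_iff (mul_ne_zero hp0 h0), ord_mul hp0 h0] at h
    omega

theorem exists_eq_natCast_mul {N : ℕ} {f : WithConv (C →ₗ[O] S)} (hp0 : (p : S) ≠ 0)
    (hf : f ∈ convJ O S C (N + ord (p : S))) :
    ∃ g ∈ convJ O S C N, (p : WithConv (C →ₗ[O] S)) * g = f := by
  have h : ∀ x, ∃ z : S, (p : S) * z = f x := fun x => by
    rcases eq_or_ne (f x) 0 with h0 | h0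
    · exact ⟨0, by simp [h0]⟩
    · obtain ⟨z, hz⟩ := dvd_of_ord_le hp0 h0 (((le_ord_iff h0).2
        (Ideal.pow_le_pow_right (Nat.le_add_left _ N) (hf x))))
      exact ⟨z, hz.symm⟩
  choose g hg using h
  let G : C →ₗ[O] S :=
    { toFun := g
      map_add' := fun x y => mul_left_cancel₀ hp0 (by rw [mul_add, hg, hg, hg]; exact map_add f.ofConv x y)
      map_smul' := fun c x => mul_left_cancel₀ hp0 (by
        rw [RingHom.id_apply, mul_smul_comm, hg, hg]; exact map_smul f.ofConv c x) }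
  have hG : (p : WithConv (C →ₗ[O] S)) * toConv G = f :=
    WithConv.ext (LinearMap.ext fun x => (natCast_apply_mul p (toConv G) x).trans (hg x))
  exact ⟨toConv G, mem_of_natCast_mul_mem p hp0 (hG ▸ hf), hG⟩

/-- The first order term of the `p`-th power. -/
theorem pow_p_sub (hp0 : (p : S) ≠ 0) {N : ℕ} (hN : ord (p : S) < (p - 1) * N) {y : WithConv (C →ₗ[O] S)}
    (hy : y ∈ convJ O S C N) :
    (1 + y) ^ p - 1 - (p : WithConv (C →ₗ[O] S)) * y ∈ convJ O S C (N + ord (p : S) + 1) := by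
  have hN0 : 0 < N := by
    rcases Nat.eq_zero_or_pos N with rfl | h
    · simp at hN
    · exact h
  obtain ⟨q, hq⟩ : ∃ q, p = q + 2 := ⟨p - 2, by have := hpr.out.two_le; omega⟩
  have hsum : (1 + y) ^ p = ∑ k ∈ Finset.range (q + 1), y ^ (k + 2) * (p.choose (k + 2) : WithConv (C →ₗ[O] S)) +
      (p : WithConv (C →ₗ[O] S)) * y + 1 := by
    rw [add_comm 1 y, add_pow, hq, Finset.sum_range_succ', Finset.sum_range_succ']
    simp [mul_comm]
  rw [hsum, add_sub_cancel_right, add_sub_cancel_right]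
  refine sum_mem fun k hk => ?_
  rw [Finset.mem_range] at hk
  rcases Nat.lt_or_ge (k + 2) p with h | h
  · obtain ⟨c, hc⟩ := hpr.out.dvd_choose_self (k := k + 2) (by omega) h
    rw [hc, Nat.cast_mul, mul_comm, mul_assoc]
    refine convJ_anti (show N + ord (p : S) + 1 ≤ (k + 2) * N + ord (p : S) by
      have : 2 * N ≤ (k + 2) * N := Nat.mul_le_mul_right N (by omega)
      omega) (natCast_mul_mem p hp0 (Ideal.mul_mem_left _ _ (convJ_pow hy (k + 1))))
  · refine Ideal.mul_mem_right _ _ (convJ_anti ?_ (convJ_pow hy (k + 1)))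
    have h1 : (p - 1) * N + N = p * N := by
      rw [← Nat.succ_mul, Nat.succ_eq_add_one, Nat.sub_add_cancel hpr.out.one_le]
    have h2 : p * N ≤ (k + 1 + 1) * N := Nat.mul_le_mul_right N h
    omega

theorem pow_sub_one_mem {N : ℕ} {y : WithConv (C →ₗ[O] S)} (hy : y - 1 ∈ convJ O S C N) (k : ℕ) :
    y ^ k - 1 ∈ convJ O S C N := by
  obtain ⟨c, hc⟩ : y - 1 ∣ y ^ k - 1 ^ k := sub_dvd_pow_sub_pow y 1 k
  rw [one_pow] at hc
  exact hc ▸ Ideal.mul_mem_right _ _ hy

theorem mul_sub_one_mem {N : ℕ} {x y : WithConv (C →ₗ[O] S)} (hx : x - 1 ∈ convJ O S C N)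
    (hy : y - 1 ∈ convJ O S C N) : x * y - 1 ∈ convJ O S C N := by
  rw [show x * y - 1 = x * (y - 1) + (x - 1) by ring]
  exact add_mem (Ideal.mul_mem_left _ _ hy) hx

variable {μ : ℕ}

/-- There is no `p`-th root of unity close to `1`. -/
theorem eq_one_of_pow_p_eq_one (hp0 : (p : S) ≠ 0) (hμ : ord (p : S) < (p - 1) * μ)
    {v : WithConv (C →ₗ[O] S)} (hv : v - 1 ∈ convJ O S C μ) (h : v ^ p = 1) : v = 1 := by
  set y := v - 1 with hydef
  have hy1 : 1 + y = v := by rw [hydef]; ring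
  have key : ∀ j, y ∈ convJ O S C (μ + j) := by
    intro j
    induction j with
    | zero => simpa using hv
    | succ j ih =>
      refine mem_of_natCast_mul_mem p hp0 ?_
      have h1 := pow_p_sub p hp0 (lt_of_lt_of_le hμ (Nat.mul_le_mul_left _ (Nat.le_add_right μ j))) ih
      rw [hy1, h, sub_self, zero_sub, neg_mem_iff] at h1
      rwa [show μ + (j + 1) + ord (p : S) = μ + j + ord (p : S) + 1 by omega]
  exact sub_eq_zero.1 (eq_zero_of_forall_mem_convJ fun N => convJ_anti (Nat.le_add_left N μ) (key N))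

theorem eq_one_of_pow_eq_one (hp0 : (p : S) ≠ 0) (hμ : ord (p : S) < (p - 1) * μ) :
    ∀ (n : ℕ) {v : WithConv (C →ₗ[O] S)}, v - 1 ∈ convJ O S C μ → v ^ p ^ n = 1 → v = 1
  | 0, v, _, h => by simpa using h
  | n + 1, v, hv, h => by
    refine eq_one_of_pow_eq_one hp0 hμ n hv (eq_one_of_pow_p_eq_one p hp0 hμ (pow_sub_one_mem hv _) ?_)
    rwa [← pow_mul, ← pow_succ]

variable [IsDomain O] [IsDiscreteValuationRing O] [IsAdicComplete (𝔪 O) O] [Module.Finite O S]

/-- A Cauchy sequence of linear maps has a limit. -/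
theorem exists_convLimit (hinj : Function.Injective (algebraMap O S)) (f : ℕ → WithConv (C →ₗ[O] S))
    (hf : ∀ j, f (j + 1) - f j ∈ convJ O S C j) : ∃ L, ∀ j, L - f j ∈ convJ O S C j := by
  obtain ⟨π, hπ⟩ := exists_irreducible O
  haveI : IsLocalHom (algebraMap O S) := RingHom.IsIntegral.isLocalHom
    (algebraMap_isIntegral_iff.2 inferInstance) hinj
  set e := ord (algebraMap O S π) with he
  have he0 : 0 < e := ord_algebraMap_pos hinj hπ
  have hπ0 : algebraMap O S π ≠ 0 := fun h => hπ.ne_zero (hinj (h.trans (map_zero _).symm))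
  have hmP : ∀ N, mPow O S N = 𝔪 S ^ (N * e) := by
    intro N
    obtain ⟨ϖ, hϖ⟩ := exists_irreducible S
    obtain ⟨k, u, hu⟩ := IsDiscreteValuationRing.eq_unit_mul_pow_irreducible hπ0 hϖ
    have hk : k = e := by
      rw [he, hu, ord_mul u.ne_zero (pow_ne_zero _ hϖ.ne_zero), (ord_eq_zero_iff u.ne_zero).2 u.isUnit,
        ord_pow hϖ.ne_zero]
      simp [ord, addVal_uniformizer hϖ]
    rw [mPow, Ideal.map_pow, hπ.maximalIdeal_eq, Ideal.map_span, Set.image_singleton, hu,
      Ideal.span_singleton_mul_left_unit u.isUnit, ← hk, hϖ.maximalIdeal_eq, ← Ideal.span_singleton_pow,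
      ← pow_mul, mul_comm]
  have hle : ∀ {i j}, i ≤ j → f j - f i ∈ convJ O S C i := by
    intro i j hij
    induction j, hij using Nat.le_induction with
    | base => simp
    | succ j hij ih =>
      rw [← sub_add_sub_cancel (f (j + 1)) (f j) (f i)]
      exact add_mem (convJ_anti hij (hf j)) ih
  have hx : ∀ x, ∃ l : S, ∀ j, l - f j x ∈ 𝔪 S ^ j := by
    intro x
    obtain ⟨l, hl⟩ := exists_limit (O := O) (fun N => f (N * e) x) fun N => by
      rw [hmP]; exact hle (Nat.mul_le_mul_right e N.le_succ) x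
    refine ⟨l, fun j => ?_⟩
    have hje : j ≤ j * e := Nat.le_mul_of_pos_right j he0
    have h1 := hl j
    rw [hmP] at h1
    have h2 : f (j * e) x - f j x ∈ 𝔪 S ^ j := hle hje x
    rw [← sub_add_sub_cancel l (f (j * e) x) (f j x)]
    exact add_mem (Ideal.pow_le_pow_right hje h1) h2
  choose l hl using hx
  have huniq : ∀ {a b : S}, (∀ j, a - b ∈ 𝔪 S ^ j) → a = b := fun h => by
    have h0 := Ideal.iInf_pow_eq_bot_of_isLocalRing (𝔪 S) (IsLocalRing.maximalIdeal.isMaximal S).ne_top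
    refine sub_eq_zero.1 ((Submodule.mem_bot S).1 ?_)
    rw [← h0]; exact Submodule.mem_iInf _ |>.2 h
  let L : C →ₗ[O] S :=
    { toFun := l
      map_add' := fun x y => huniq fun j => by
        have h := sub_mem (hl (x + y) j) (add_mem (hl x j) (hl y j))
        rw [show (f j) (x + y) = f j x + f j y from map_add (f j).ofConv x y] at h
        convert h using 1; ring
      map_smul' := fun c x => huniq fun j => by
        have h := sub_mem (hl (c • x) j) (Submodule.smul_of_tower_mem (𝔪 S ^ j) c (hl x j))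
        rw [smul_sub, show (f j) (c • x) = c • f j x from map_smul (f j).ofConv c x] at h
        rw [RingHom.id_apply]
        convert h using 1; ring }
  exact ⟨toConv L, fun j x => hl x j⟩

/-- `p`-th roots near `1`. -/
theorem exists_pow_p_root (hinj : Function.Injective (algebraMap O S)) (hp0 : (p : S) ≠ 0)
    (hμ : ord (p : S) < (p - 1) * μ) {z t : WithConv (C →ₗ[O] S)} (hz : z - 1 ∈ convJ O S C 1)
    (ht : t - z ∈ convJ O S C (μ + ord (p : S))) :
    ∃ w, w - 1 ∈ convJ O S C μ ∧ z * w ^ p = t := by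
  have hμ0 : 0 < μ := by
    rcases Nat.eq_zero_or_pos μ with rfl | h
    · simp at hμ
    · exact h
  have step : ∀ j w, w - 1 ∈ convJ O S C μ → t - z * w ^ p ∈ convJ O S C (μ + j + ord (p : S)) →
      ∃ w', w' - w ∈ convJ O S C (μ + j) ∧ w' - 1 ∈ convJ O S C μ ∧
        t - z * w' ^ p ∈ convJ O S C (μ + (j + 1) + ord (p : S)) := by
    intro j w hw hd
    obtain ⟨y, hy, hye⟩ := exists_eq_natCast_mul p hp0 hd
    refine ⟨w * (1 + y), ?_, mul_sub_one_mem hw (by simpa using convJ_anti (Nat.le_add_right μ j) hy), ?_⟩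
    · rw [show w * (1 + y) - w = w * y by ring]; exact Ideal.mul_mem_left _ _ hy
    · have h1 := pow_p_sub p hp0 (lt_of_lt_of_le hμ (Nat.mul_le_mul_left _ (Nat.le_add_right μ j))) hy
      have h2 : z * w ^ p - 1 ∈ convJ O S C 1 :=
        mul_sub_one_mem hz (pow_sub_one_mem (convJ_anti hμ0 hw) p)
      have h3 := convJ_mul (natCast_mul_mem p hp0 hy) h2
      rw [show μ + (j + 1) + ord (p : S) = μ + j + ord (p : S) + 1 by omega]
      have e : t - z * (w * (1 + y)) ^ p = -((p : WithConv (C →ₗ[O] S)) * y * (z * w ^ p - 1)) -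
          z * w ^ p * ((1 + y) ^ p - 1 - (p : WithConv (C →ₗ[O] S)) * y) := by
        rw [mul_pow]; linear_combination (-1 : WithConv (C →ₗ[O] S)) * hye
      rw [e]
      exact sub_mem (neg_mem h3) (Ideal.mul_mem_left _ _ h1)
  let T : ℕ → Type (max u v) := fun j =>
    {w : WithConv (C →ₗ[O] S) // w - 1 ∈ convJ O S C μ ∧ t - z * w ^ p ∈ convJ O S C (μ + j + ord (p : S))}
  choose next hn1 hn2 hn3 using step
  let sq : ∀ j, T j := fun j => Nat.rec ⟨1, by simp, by simpa using ht⟩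
    (fun j w => ⟨next j w.1 w.2.1 w.2.2, hn2 j w.1 w.2.1 w.2.2, hn3 j w.1 w.2.1 w.2.2⟩) j
  obtain ⟨L, hL⟩ := exists_convLimit hinj (fun j => (sq j).1) fun j =>
    convJ_anti (Nat.le_add_left j μ) (hn1 j (sq j).1 (sq j).2.1 (sq j).2.2)
  refine ⟨L, ?_, sub_eq_zero.1 (eq_zero_of_forall_mem_convJ fun j => ?_)⟩
  · rw [← sub_add_sub_cancel L (sq μ).1 1]; exact add_mem (hL μ) (sq μ).2.1
  · rw [← sub_add_sub_cancel (z * L ^ p) (z * (sq j).1 ^ p) t, ← mul_sub]
    refine add_mem (Ideal.mul_mem_left _ _ ?_) (by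
      rw [← neg_sub, neg_mem_iff]
      exact convJ_anti (by omega) (sq j).2.2)
    obtain ⟨c, hc⟩ := sub_dvd_pow_sub_pow L (sq j).1 p
    exact hc ▸ Ideal.mul_mem_right _ _ (hL j)

/-- `p ^ n`-th roots near `1`. -/
theorem exists_pow_root (hinj : Function.Injective (algebraMap O S)) (hp0 : (p : S) ≠ 0) :
    ∀ (n : ℕ) {μ : ℕ} {z t : WithConv (C →ₗ[O] S)}, ord (p : S) < (p - 1) * μ → z - 1 ∈ convJ O S C 1 →
      t - z ∈ convJ O S C (μ + (n + 1) * ord (p : S)) → ∃ w, w - 1 ∈ convJ O S C μ ∧ z * w ^ p ^ (n + 1) = t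
  | 0, μ, z, t, hμ, hz, ht => by
    simpa using exists_pow_p_root p hinj hp0 hμ hz (by simpa using ht)
  | n + 1, μ, z, t, hμ, hz, ht => by
    set ν := μ + (n + 1) * ord (p : S) with hν
    obtain ⟨v, hv, hve⟩ := exists_pow_p_root p hinj hp0 (μ := ν)
      (lt_of_lt_of_le hμ (Nat.mul_le_mul_left _ (Nat.le_add_right _ _))) hz
      (by rw [hν]; rwa [show μ + (n + 1) * ord (p : S) + ord (p : S) = μ + (n + 1 + 1) * ord (p : S) by ring])
    obtain ⟨w, hw, hwe⟩ := exists_pow_root hinj hp0 n (μ := μ) (z := 1) (t := v) hμ (by simp) hv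
    exact ⟨w, hw, by rw [← hve, ← hwe, one_mul, ← pow_mul, ← pow_succ]⟩

end FontaineLib
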