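import Groth.Agent.FontaineLib.DPFilt
import Mathlib.RingTheory.DiscreteValuationRing.Basic
import Mathlib.RingTheory.DividedPowers.Padic
import Mathlib.NumberTheory.Padics.PadicVal.Basic

/-! Divided powers on powers of the maximal ideal of a mixed characteristic discrete valuation ring. -/

universe u

open IsLocalRing IsDiscreteValuationRing
open W4c1noabschz1 (dpPow IsDPTopNilpotent)

namespace FontaineLib

variable {S : Type u} [CommRing S] [IsDomain S] [IsDiscreteValuationRing S]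

/-- The valuation with natural number values (zero goes to zero). -/
noncomputable def ord (x : S) : ℕ := (addVal S x).toNat

theorem addVal_eq_ord {x : S} (hx : x ≠ 0) : addVal S x = ord x :=
  (ENat.coe_toNat (fun h => hx (addVal_eq_top_iff.1 h))).symm

theorem ord_mul {x y : S} (hx : x ≠ 0) (hy : y ≠ 0) : ord (x * y) = ord x + ord y := by
  have h := addVal_mul (a := x) (b := y)
  rw [addVal_eq_ord hx, addVal_eq_ord hy, addVal_eq_ord (mul_ne_zero hx hy)] at h
  exact_mod_cast h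

theorem ord_pow {x : S} (hx : x ≠ 0) (n : ℕ) : ord (x ^ n) = n * ord x := by
  induction n with
  | zero => simp [ord, addVal_one]
  | succ n ih => rw [pow_succ, ord_mul (pow_ne_zero _ hx) hx, ih]; ring

theorem le_ord_iff {x : S} (hx : x ≠ 0) {m : ℕ} : m ≤ ord x ↔ x ∈ maximalIdeal S ^ m := by
  obtain ⟨ϖ, hϖ⟩ := exists_irreducible S
  rw [hϖ.maximalIdeal_eq, Ideal.span_singleton_pow, Ideal.mem_span_singleton, ← addVal_le_iff_dvd,
    addVal_pow, addVal_uniformizer hϖ, addVal_eq_ord hx]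
  simp

theorem le_addVal_iff {x : S} {m : ℕ} : (m : ℕ∞) ≤ addVal S x ↔ x ∈ maximalIdeal S ^ m := by
  rcases eq_or_ne x 0 with rfl | hx
  · simp [addVal_zero]
  · rw [addVal_eq_ord hx, Nat.cast_le, le_ord_iff hx]

theorem ord_eq_zero_iff {x : S} (hx : x ≠ 0) : ord x = 0 ↔ IsUnit x := by
  rw [← addVal_eq_zero_iff, addVal_eq_ord hx]
  simp

theorem dvd_of_ord_le {x y : S} (hx : x ≠ 0) (hy : y ≠ 0) (h : ord x ≤ ord y) : x ∣ y := by
  rw [← addVal_le_iff_dvd, addVal_eq_ord hx, addVal_eq_ord hy]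
  exact_mod_cast h

theorem min_ord_le_ord_add {x y : S} (hx : x ≠ 0) (hy : y ≠ 0) (hxy : x + y ≠ 0) :
    min (ord x) (ord y) ≤ ord (x + y) := by
  have h := addVal_add (a := x) (b := y)
  rw [addVal_eq_ord hx, addVal_eq_ord hy, addVal_eq_ord hxy, min_le_iff] at h
  rw [min_le_iff]
  exact_mod_cast h

section Factorial

variable [CharZero S] (p : ℕ) [Fact p.Prime]

theorem ord_natCast_factorial (hp : (p : S) ∈ maximalIdeal S) (n : ℕ) :
    ord (n.factorial : S) = padicValNat p n.factorial * ord (p : S) := by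
  obtain ⟨q, hq⟩ : p ^ padicValNat p n.factorial ∣ n.factorial := pow_padicValNat_dvd
  have hq' : ¬ p ∣ q := fun h => by
    refine pow_succ_padicValNat_not_dvd (p := p) (Nat.factorial_ne_zero n) ?_
    obtain ⟨c, rfl⟩ := h
    exact ⟨c, hq.trans (by ring)⟩
  have hu : IsUnit (q : S) := by
    by_contra h
    refine (IsLocalRing.maximalIdeal.isMaximal S).ne_top ((Ideal.eq_top_iff_one _).2 ?_)
    have hg := Nat.gcd_eq_gcd_ab p q
    rw [((Fact.out : p.Prime).coprime_iff_not_dvd.2 hq').gcd_eq_one] at hg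
    have hg' : (1 : S) = (p : S) * ((Nat.gcdA p q : ℤ) : S) + (q : S) * ((Nat.gcdB p q : ℤ) : S) := by
      exact_mod_cast congrArg (fun z : ℤ => (z : S)) hg
    rw [hg']
    exact add_mem (Ideal.mul_mem_right _ _ hp) (Ideal.mul_mem_right _ _ h)
  have hp0 : (p : S) ≠ 0 := Nat.cast_ne_zero.2 (Fact.out : p.Prime).ne_zero
  conv_lhs => rw [hq, Nat.cast_mul, Nat.cast_pow, ord_mul (pow_ne_zero _ hp0) hu.ne_zero, ord_pow hp0,
    (ord_eq_zero_iff hu.ne_zero).2 hu, add_zero]

theorem le_ord_pow (hp : (p : S) ∈ maximalIdeal S) {μ : ℕ} (hμ : ord (p : S) < (p - 1) * μ)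
    {x : S} (hx0 : x ≠ 0) (hx : x ∈ maximalIdeal S ^ μ) {n : ℕ} (hn : n ≠ 0) :
    (p - 1) * ord (n.factorial : S) + (p - 1) * μ + (n - 1) ≤ (p - 1) * ord (x ^ n) := by
  rw [ord_natCast_factorial p hp, ord_pow hx0]
  have hμx : μ ≤ ord x := (le_ord_iff hx0).2 hx
  have hv : (p - 1) * padicValNat p n.factorial ≤ n - 1 := by
    have := sub_one_mul_padicValNat_factorial_lt_of_ne_zero p hn
    omega
  obtain ⟨c, hc⟩ : ∃ c, (p - 1) * μ = ord (p : S) + 1 + c :=
    ⟨(p - 1) * μ - (ord (p : S) + 1), by omega⟩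
  obtain ⟨m, rfl⟩ : ∃ m, n = m + 1 := ⟨n - 1, by omega⟩
  have h1 : (p - 1) * padicValNat p (m + 1).factorial * ord (p : S) ≤ m * ord (p : S) :=
    Nat.mul_le_mul_right _ (by simpa using hv)
  have h2 : (m + 1) * ((p - 1) * μ) ≤ (p - 1) * ((m + 1) * ord x) := by
    rw [Nat.mul_left_comm (p - 1)]
    exact Nat.mul_le_mul_left _ (Nat.mul_le_mul_left _ hμx)
  rw [hc] at h2
  have h3 : (m + 1) * (ord (p : S) + 1 + c) = (ord (p : S) + 1 + c) + m * ord (p : S) + m + m * c := by ring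
  rw [← Nat.mul_assoc, Nat.add_sub_cancel, hc]
  omega

/-- Divided powers on a power of the maximal ideal. -/
theorem exists_dividedPowers (hp : (p : S) ∈ maximalIdeal S) {μ : ℕ}
    (hμ : ord (p : S) < (p - 1) * μ) :
    ∃ hI : DividedPowers (maximalIdeal S ^ μ), IsDPTopNilpotent hI := by
  classical
  have hp1 : 1 ≤ p - 1 := by have := (Fact.out : p.Prime).two_le; omega
  let F := FractionRing S
  haveI : CharZero F := ⟨fun a b h => Nat.cast_injective (R := S) (IsFractionRing.injective S F (by simpa using h))⟩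
  have hfac : ∀ n : ℕ, ((n.factorial : ℕ) : S) ≠ 0 := fun n => Nat.cast_ne_zero.2 n.factorial_ne_zero
  have hex : ∀ (n : ℕ) {x : S}, x ∈ maximalIdeal S ^ μ →
      ∃ (y : S) (_ : n ≠ 0 → y ∈ maximalIdeal S ^ μ), (n.factorial : S) * y = x ^ n := by
    intro n x hx
    rcases eq_or_ne n 0 with rfl | hn
    · exact ⟨1, fun h => absurd rfl h, by simp⟩
    rcases eq_or_ne x 0 with rfl | hx0
    · exact ⟨0, fun _ => zero_mem _, by simp [zero_pow hn]⟩
    have h := le_ord_pow p hp hμ hx0 hx hn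
    have hle : ord (n.factorial : S) ≤ ord (x ^ n) :=
      Nat.le_of_mul_le_mul_left (by omega : (p - 1) * _ ≤ (p - 1) * _) (by omega)
    obtain ⟨y, hy⟩ := dvd_of_ord_le (hfac n) (pow_ne_zero _ hx0) hle
    have hy0 : y ≠ 0 := fun h => pow_ne_zero n hx0 (by rw [hy, h, mul_zero])
    rw [hy, ord_mul (hfac n) hy0, Nat.mul_add] at h
    have h' : (p - 1) * μ ≤ (p - 1) * ord y := by omega
    exact ⟨y, fun _ => (le_ord_iff hy0).1 (Nat.le_of_mul_le_mul_left h' (by omega)), hy.symm⟩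
  have hne : maximalIdeal S ^ μ ≠ ⊥ := pow_ne_zero _ (IsDiscreteValuationRing.not_a_field S)
  have htop : (maximalIdeal S ^ μ).map (algebraMap S F) = ⊤ := by
    obtain ⟨x, hx, hx0⟩ := (Submodule.ne_bot_iff _).1 hne
    exact Ideal.eq_top_of_isUnit_mem _ (Ideal.mem_map_of_mem _ hx)
      (isUnit_iff_ne_zero.2 ((map_ne_zero_iff _ (IsFractionRing.injective S F)).2 hx0))
  let hJ : DividedPowers (⊤ : Ideal F) := DividedPowers.RatAlgebra.dividedPowers ⊤
  let hI : DividedPowers (maximalIdeal S ^ μ) := DividedPowers.ofInjective _ ⊤ (algebraMap S F)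
    (IsFractionRing.injective S F) hJ htop fun n x hx => by
      obtain ⟨y, hy, hye⟩ := hex n hx
      refine ⟨y, hy, ?_⟩
      have h2 : (n.factorial : F) * algebraMap S F y =
          (n.factorial : F) * hJ.dpow n (algebraMap S F x) := by
        rw [hJ.factorial_mul_dpow_eq_pow Submodule.mem_top, ← map_natCast (algebraMap S F), ← map_mul, hye,
          map_pow]
      exact mul_left_cancel₀ (Nat.cast_ne_zero.2 n.factorial_ne_zero) h2
  refine ⟨hI, ?_⟩
  have hgen : ∀ (n : ℕ) {x : S}, x ∈ maximalIdeal S ^ μ →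
      (n : ℕ∞) ≤ (p - 1 : ℕ) * addVal S (hI.dpow n x) := by
    intro n x hx
    rcases eq_or_ne (hI.dpow n x) 0 with h0 | h0
    · rw [h0, addVal_zero]
      rw [ENat.mul_top (by exact_mod_cast (by omega : p - 1 ≠ 0))]
      exact le_top
    rw [addVal_eq_ord h0]
    rcases eq_or_ne n 0 with rfl | hn
    · simp
    rcases eq_or_ne x 0 with rfl | hx0
    · exact absurd (hI.dpow_eval_zero hn) h0
    have h := le_ord_pow p hp hμ hx0 hx hn
    rw [← hI.factorial_mul_dpow_eq_pow hx, ord_mul (hfac n) h0, Nat.mul_add] at h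
    have h1 : 1 ≤ (p - 1) * μ := by omega
    have h2 : n ≤ (p - 1) * ord (hI.dpow n x) := by omega
    exact_mod_cast h2
  rw [IsDPTopNilpotent, eq_bot_iff]
  intro z hz
  rw [Submodule.mem_iInf] at hz
  rw [Submodule.mem_bot]
  by_contra h0
  have hle : dpPow hI ((p - 1) * (ord z + 1)) ≤ maximalIdeal S ^ (ord z + 1) := by
    rw [dpPow, Ideal.span_le]
    rintro _ ⟨r, x, e, hx, he, rfl⟩
    rw [SetLike.mem_coe, ← le_addVal_iff]
    have h1 : ((∑ i, e i : ℕ) : ℕ∞) ≤ (p - 1 : ℕ) * addVal S (∏ i, hI.dpow (e i) (x i)) := by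
      have hprod : addVal S (∏ i, hI.dpow (e i) (x i)) = ∑ i, addVal S (hI.dpow (e i) (x i)) := by
        induction (Finset.univ : Finset (Fin r)) using Finset.induction with
        | empty => simp [addVal_one]
        | insert j s hj ih => rw [Finset.prod_insert hj, Finset.sum_insert hj, addVal_mul, ih]
      rw [hprod, Finset.mul_sum, Nat.cast_sum]
      exact Finset.sum_le_sum fun i _ => hgen _ (hx i)
    rcases eq_or_ne (∏ i, hI.dpow (e i) (x i)) 0 with hz0 | hz0
    · rw [hz0, addVal_zero]; exact le_top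
    rw [addVal_eq_ord hz0] at h1 ⊢
    have h1' : ∑ i, e i ≤ (p - 1) * ord (∏ i, hI.dpow (e i) (x i)) := by exact_mod_cast h1
    exact_mod_cast Nat.le_of_mul_le_mul_left (he.trans h1') (by omega)
  have := (le_ord_iff h0).2 (hle (hz _))
  omega

end Factorial

end FontaineLib
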