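import Groth.Agent.FontaineLib.ConvRoot
import Groth.Agent.FontaineLib.Points
import Mathlib.RingTheory.HopfAlgebra.Basic

/-! The lifting property of a finite flat group scheme killed by `p ^ n`. -/

set_option linter.unusedSectionVars false

universe u

open IsLocalRing IsDiscreteValuationRing WithConv Coalgebra
open scoped TensorProduct

local notation "𝔪" => IsLocalRing.maximalIdeal

namespace FontaineLib

section Maps

variable {O A S : Type u} [CommRing O] [CommRing A] [Bialgebra O A] [IsCocomm O A] [CommRing S] [Algebra O S]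

/-- `f ↦ ((x ⊗ y) ↦ f (x y))`. -/
noncomputable def convM : WithConv (A →ₗ[O] S) →* WithConv (A ⊗[O] A →ₗ[O] S) where
  toFun f := toConv (f.ofConv ∘ₗ LinearMap.mul' O A)
  map_one' := WithConv.ext (TensorProduct.ext' fun x y => by
    show algebraMap O S (counit (x * y)) = algebraMap O S (counit (x ⊗ₜ[O] y))
    simp [Bialgebra.counit_mul, mul_comm])
  map_mul' f g := WithConv.ext (LinearMap.convMul_comp_coalgHom_distrib f g (Bialgebra.mulCoalgHom O A))

/-- `f ↦ ((x ⊗ y) ↦ f x * f y)`. -/
noncomputable def convT : WithConv (A →ₗ[O] S) →* WithConv (A ⊗[O] A →ₗ[O] S) where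
  toFun f := toConv (LinearMap.mul' O S ∘ₗ TensorProduct.map f.ofConv f.ofConv)
  map_one' := WithConv.ext (TensorProduct.ext' fun x y => by
    show algebraMap O S (counit x) * algebraMap O S (counit y) = algebraMap O S (counit (x ⊗ₜ[O] y))
    simp [mul_comm])
  map_mul' f g := WithConv.ext (TensorProduct.ext' fun x y => by
    show (f * g) x * (f * g) y = (toConv (LinearMap.mul' O S ∘ₗ TensorProduct.map f.ofConv f.ofConv) *
      toConv (LinearMap.mul' O S ∘ₗ TensorProduct.map g.ofConv g.ofConv)) (x ⊗ₜ[O] y)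
    rw [(ℛ O x).convMul_apply, (ℛ O y).convMul_apply, ((ℛ O x).tmul (ℛ O y)).convMul_apply,
      Finset.sum_mul_sum, ← Finset.sum_product']
    exact Finset.sum_congr rfl fun i _ => by
      simp only [Coalgebra.Repr.tmul_left, Coalgebra.Repr.tmul_right, LinearMap.coe_comp,
        Function.comp_apply, TensorProduct.map_tmul, LinearMap.mul'_apply]
      ring)

theorem convM_apply (f : WithConv (A →ₗ[O] S)) (x y : A) : convM f (x ⊗ₜ[O] y) = f (x * y) := rfl

theorem convT_apply (f : WithConv (A →ₗ[O] S)) (x y : A) : convT f (x ⊗ₜ[O] y) = f x * f y := rfl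

/-- Composition with an algebra map, on the convolution rings. -/
theorem comp_pow {B : Type u} [CommRing B] [Algebra O B] (h : S →ₐ[O] B) (f : WithConv (A →ₗ[O] S)) :
    ∀ k : ℕ, toConv (h.toLinearMap ∘ₗ (f ^ k).ofConv) = toConv (h.toLinearMap ∘ₗ f.ofConv) ^ k
  | 0 => WithConv.ext (LinearMap.ext fun x => h.commutes (counit x))
  | k + 1 => by
    rw [pow_succ, pow_succ, LinearMap.algHom_comp_convMul_distrib, toConv_ofConv, comp_pow h f k]

end Maps

section Killed

variable {O A : Type u} [CommRing O] [CommRing A] [HopfAlgebra O A] [IsCocomm O A]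
  {q : ℕ} (hkill : toConv (LinearMap.id : A →ₗ[O] A) ^ q = 1)

include hkill in
/-- A point is killed by `q`. -/
theorem conv_pow_eq_one {B : Type u} [CommRing B] [Algebra O B] (h : A →ₐ[O] B) :
    toConv h.toLinearMap ^ q = 1 := by
  have := comp_pow h (toConv (LinearMap.id : A →ₗ[O] A)) q
  rw [hkill] at this
  refine Eq.trans ?_ (this.symm.trans ?_)
  · rw [show h.toLinearMap ∘ₗ (toConv (LinearMap.id : A →ₗ[O] A)).ofConv = h.toLinearMap from rfl]
  · exact WithConv.ext (LinearMap.ext fun x => h.commutes (counit x))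

end Killed

section Lift

variable {O A : Type u} [CommRing O] [IsDomain O] [IsDiscreteValuationRing O]
  [IsAdicComplete (𝔪 O) O] [CharZero O] [CommRing A] [HopfAlgebra O A] [IsCocomm O A]
  [Module.Finite O A] [Module.Flat O A]
  (p : ℕ) [Fact p.Prime] {n : ℕ} (hkill : toConv (LinearMap.id : A →ₗ[O] A) ^ p ^ (n + 1) = 1)

include hkill in
theorem liftsUniquely_of_killed : LiftsUniquely A ((p : O) ^ (n + 1)) p := by
  intro T _ _ _ _ _ _ _ hpm hinj μ hμ
  have hp0 : (p : T) ≠ 0 := Nat.cast_ne_zero.2 (Fact.out : p.Prime).ne_zero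
  have hμ0 : 0 < μ := by
    rcases Nat.eq_zero_or_pos μ with rfl | h
    · simp at hμ
    · exact h
  constructor
  · intro χ χ' h
    set c := toConv χ.toLinearMap with hc
    set c' := toConv χ'.toLinearMap with hc'
    have hpow : ∀ h : A →ₐ[O] T, toConv h.toLinearMap ^ p ^ (n + 1) = 1 := fun h => conv_pow_eq_one hkill h
    have hdiff : c' - c ∈ convJ O T A μ := fun x => Ideal.Quotient.eq.1 (AlgHom.congr_fun h x).symm
    obtain ⟨q, hq⟩ : ∃ q, p ^ (n + 1) = q + 1 :=
      ⟨p ^ (n + 1) - 1, by have := Nat.one_le_pow (n + 1) p (Fact.out : p.Prime).pos; omega⟩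
    have hv : c ^ q * c' = 1 := by
      refine eq_one_of_pow_eq_one p hp0 hμ (n + 1) ?_ ?_
      · rw [show c ^ q * c' - 1 = c ^ q * (c' - c) + (c ^ (q + 1) - 1) by ring, ← hq, hpow, sub_self, add_zero]
        exact Ideal.mul_mem_left _ _ hdiff
      · rw [mul_pow, hpow, mul_one, ← pow_mul, mul_comm, pow_mul, hpow, one_pow]
    have : c' = c := by
      calc c' = c ^ (q + 1) * c' := by rw [← hq, hpow, one_mul]
        _ = c * (c ^ q * c') := by ring
        _ = c := by rw [hv, mul_one]
    exact AlgHom.ext fun x => congrArg (fun f : WithConv (A →ₗ[O] T) => f x) this.symm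
  · set a : T := algebraMap O T ((p : O) ^ (n + 1)) with ha
    set Q : Ideal T := Ideal.span {a} * 𝔪 T ^ μ with hQdef
    intro ψ
    have haT : a = (p : T) ^ (n + 1) := by rw [ha, map_pow, map_natCast]
    have hQ : Q = 𝔪 T ^ (μ + (n + 1) * ord (p : T)) := by
      rw [hQdef, haT, span_eq_pow_ord (pow_ne_zero _ hp0), ord_pow hp0, ← pow_add, add_comm]
    haveI : Module.Free O A := Module.free_of_flat_of_isLocalRing
    obtain ⟨U, hU⟩ := Module.projective_lifting_property (Ideal.Quotient.mkₐ O Q).toLinearMap ψ.toLinearMap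
      Ideal.Quotient.mk_surjective
    have hUx : ∀ x, Ideal.Quotient.mk Q (U x) = ψ x := fun x => LinearMap.congr_fun hU x
    set u := toConv U with hu
    have hu1 : u ^ p ^ (n + 1) - 1 ∈ convJ O T A (μ + (n + 1) * ord (p : T)) := by
      intro x
      rw [← hQ, ← Ideal.Quotient.eq_zero_iff_mem]
      show Ideal.Quotient.mk Q ((u ^ p ^ (n + 1)) x - algebraMap O T (counit x)) = 0
      rw [map_sub, sub_eq_zero]
      have h1 := comp_pow (Ideal.Quotient.mkₐ O Q) u (p ^ (n + 1))
      rw [hu, ofConv_toConv, hU, conv_pow_eq_one hkill ψ] at h1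
      exact congrArg (fun f : WithConv (A →ₗ[O] T ⧸ Q) => f x) h1
    obtain ⟨w, hw, hwe⟩ := exists_pow_root p hinj hp0 n hμ
      (convJ_anti (by omega) hu1) (t := 1) (by rw [← neg_sub, neg_mem_iff]; exact hu1)
    set x₀ := u * w with hx₀
    have hx0 : x₀ ^ p ^ (n + 1) = 1 := by rw [hx₀, mul_pow, hwe]
    have hxu : x₀ - u ∈ convJ O T A μ := by
      rw [hx₀, show u * w - u = u * (w - 1) by ring]; exact Ideal.mul_mem_left _ _ hw
    have hψ : ∀ x, Ideal.Quotient.mk (𝔪 T ^ μ) (x₀ x) =
        Ideal.Quotient.factor (Ideal.mul_le_right (I := Ideal.span {a}) (J := 𝔪 T ^ μ)) (ψ x) := by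
      intro x
      rw [← hUx, Ideal.Quotient.factor_mk, Ideal.Quotient.eq]
      exact hxu x
    have hd : convM x₀ - convT x₀ ∈ convJ O T (A ⊗[O] A) μ := by
      intro z
      show convM x₀ z - convT x₀ z ∈ 𝔪 T ^ μ
      induction z using TensorProduct.induction_on with
      | zero =>
        rw [show convM x₀ (0 : A ⊗[O] A) = 0 from map_zero (convM x₀).ofConv,
          show convT x₀ (0 : A ⊗[O] A) = 0 from map_zero (convT x₀).ofConv, sub_zero]
        exact zero_mem _
      | tmul x y =>
        rw [convM_apply, convT_apply, ← Ideal.Quotient.eq_zero_iff_mem, map_sub,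
          map_mul (Ideal.Quotient.mk (𝔪 T ^ μ)) (x₀ x) (x₀ y), hψ (x * y), hψ x, hψ y, map_mul ψ,
          map_mul (Ideal.Quotient.factor _), sub_self]
      | add z z' hz hz' =>
        rw [show convM x₀ (z + z') = convM x₀ z + convM x₀ z' from map_add (convM x₀).ofConv z z',
          show convT x₀ (z + z') = convT x₀ z + convT x₀ z' from map_add (convT x₀).ofConv z z',
          add_sub_add_comm]
        exact add_mem hz hz'
    obtain ⟨q, hq⟩ : ∃ q, p ^ (n + 1) = q + 1 :=
      ⟨p ^ (n + 1) - 1, by have := Nat.one_le_pow (n + 1) p (Fact.out : p.Prime).pos; omega⟩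
    have hM : convM x₀ ^ p ^ (n + 1) = 1 := by rw [← map_pow, hx0, map_one]
    have hT : convT x₀ ^ p ^ (n + 1) = 1 := by rw [← map_pow, hx0, map_one]
    have hv : convT x₀ ^ q * convM x₀ = 1 := by
      refine eq_one_of_pow_eq_one p hp0 hμ (n + 1) ?_ ?_
      · rw [show convT x₀ ^ q * convM x₀ - 1 =
          convT x₀ ^ q * (convM x₀ - convT x₀) + (convT x₀ ^ (q + 1) - 1) by ring, ← hq, hT, sub_self, add_zero]
        exact Ideal.mul_mem_left _ _ hd
      · rw [mul_pow, hM, mul_one, ← pow_mul, mul_comm, pow_mul, hT, one_pow]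
    have hmul : convM x₀ = convT x₀ := by
      calc convM x₀ = convT x₀ ^ (q + 1) * convM x₀ := by rw [← hq, hT, one_mul]
        _ = convT x₀ * (convT x₀ ^ q * convM x₀) := by ring
        _ = convT x₀ := by rw [hv, mul_one]
    have hxy : ∀ x y, x₀ (x * y) = x₀ x * x₀ y := fun x y => by
      rw [← convM_apply, ← convT_apply, hmul]
    have hone : x₀ 1 = 1 := by
      have h1 := hψ 1
      rw [map_one ψ, map_one (Ideal.Quotient.factor _), ← map_one (Ideal.Quotient.mk (𝔪 T ^ μ)), Ideal.Quotient.eq] at h1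
      have h0 : x₀ 1 ≠ 0 := fun h => by
        rw [h, zero_sub, neg_mem_iff] at h1
        exact (IsLocalRing.maximalIdeal.isMaximal T).ne_top
          ((Ideal.eq_top_iff_one _).2 (Ideal.pow_le_self hμ0.ne' h1))
      have h2 := hxy 1 1
      rw [mul_one] at h2
      exact (mul_eq_left₀ h0).1 h2.symm
    exact ⟨AlgHom.ofLinearMap x₀.ofConv hone hxy, fun z => hψ z⟩

end Lift

end FontaineLib
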