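import Groth.Agent.FontaineLib.Taylor
import Mathlib.RingTheory.Flat.Basic
import Mathlib.RingTheory.Flat.TorsionFree

/-! Fontaine's lifting lemma, from a suitable presentation. -/

universe u v w

open W4c1noabschz1 (dpPow IsDPTopNilpotent)
open MvPolynomial (pderiv aeval X C)
open IsLocalRing

namespace FontaineLib

/-- The ideal `(π, Y)` of `O[Y]`. -/
noncomputable def jIdeal (O : Type v) [CommRing O] [IsLocalRing O] (ι : Type*) :
    Ideal (MvPolynomial ι O) :=
  (maximalIdeal O).map C ⊔ Ideal.span (Set.range X)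

/-- The hypotheses on the presentation `O[Y₁, …, Y_r] → A` used in Fontaine's lemma. -/
structure GoodPres {O : Type v} [CommRing O] [IsLocalRing O] {A : Type w} [CommRing A] [Algebra O A]
    (a : O) (r : ℕ) (y : Fin r → A) : Prop where
  surj : Function.Surjective (aeval (R := O) y)
  deriv : ∀ g : MvPolynomial (Fin r) O, aeval y g = 0 → ∀ i,
    pderiv i g ∈ Ideal.span {C a} ⊔ RingHom.ker (aeval (R := O) y)
  gen : ∀ i, ∃ g : MvPolynomial (Fin r) O, aeval y g = 0 ∧
    ∀ j, pderiv j g - (if i = j then C a else 0) ∈ RingHom.ker (aeval (R := O) y)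
  closed : ∀ g : MvPolynomial (Fin r) O, aeval y g = 0 →
    (∀ j, pderiv j g ∈ RingHom.ker (aeval (R := O) y)) →
    ∀ N : ℕ, g ∈ RingHom.ker (aeval (R := O) y) * RingHom.ker (aeval (R := O) y) ⊔ jIdeal O (Fin r) ^ N
  nil : ∀ i, ∃ N : ℕ, y i ^ N ∈ (maximalIdeal O).map (algebraMap O A)

variable {O : Type v} [CommRing O] [IsDomain O] [IsLocalRing O] [IsNoetherianRing O]
  [IsAdicComplete (maximalIdeal O) O] {A : Type w} [CommRing A] [Algebra O A]
  {a : O} {r : ℕ} {y : Fin r → A} (hP : GoodPres a r y)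
  {S : Type u} [CommRing S] [Algebra O S] [Module.Finite O S] [Module.Flat O S]
  {I : Ideal S} (hI : DividedPowers I) (htn : IsDPTopNilpotent hI) (ha : a ≠ 0)

local notation "L" => RingHom.ker (aeval (R := O) y)
local notation "Q" => MvPolynomial (Fin r) O
local notation "𝔞" => Ideal.span {algebraMap O S a}

omit [IsDomain O] [IsNoetherianRing O] [IsAdicComplete (maximalIdeal O) O] [Module.Finite O S] [Module.Flat O S] in
theorem mem_span_a {s : Fin r → S} (hs : ∀ g ∈ L, aeval s g ∈ 𝔞) :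
    ∀ g ∈ Ideal.span {C a} ⊔ L, aeval s g ∈ 𝔞 := by
  intro g hg
  obtain ⟨p, hp, q, hq, rfl⟩ := Submodule.mem_sup.1 hg
  obtain ⟨c, rfl⟩ := Ideal.mem_span_singleton'.1 hp
  rw [map_add, map_mul, MvPolynomial.aeval_C]
  exact add_mem (Ideal.mul_mem_left _ _ (Ideal.mem_span_singleton_self _)) (hs q hq)

include hP in
omit [IsDomain O] [IsNoetherianRing O] [IsAdicComplete (maximalIdeal O) O] in
theorem deriv_stable : ∀ g ∈ Ideal.span {C a} ⊔ L, ∀ i, pderiv i g ∈ Ideal.span {C a} ⊔ L := by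
  intro g hg i
  obtain ⟨p, hp, q, hq, rfl⟩ := Submodule.mem_sup.1 hg
  obtain ⟨c, rfl⟩ := Ideal.mem_span_singleton'.1 hp
  rw [map_add, MvPolynomial.pderiv_mul, MvPolynomial.pderiv_C, mul_zero, add_zero]
  exact add_mem (Ideal.mem_sup_left (Ideal.mul_mem_left _ _ (Ideal.mem_span_singleton_self _)))
    (hP.deriv q hq i)

include hP in
omit [IsDomain O] [IsNoetherianRing O] [IsAdicComplete (maximalIdeal O) O] [Module.Finite O S] [Module.Flat O S] in
/-- Taylor's formula for elements of the ideal of the presentation. -/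
theorem taylor_ker {k : ℕ} (hk : 1 ≤ k) {s : Fin r → S} (hs : ∀ g ∈ L, aeval s g ∈ 𝔞)
    {h : Fin r → S} (hh : ∀ i, h i ∈ dpPow hI k) {g : Q} (hg : g ∈ L) :
    aeval (s + h) g - aeval s g - ∑ i, aeval s (pderiv i g) * h i ∈ 𝔞 * dpPow hI (2 * k) :=
  taylor hI _ (deriv_stable hP) _ s (mem_span_a hs) hk h hh (hP.deriv g hg)

include hP ha in
omit [IsNoetherianRing O] [IsAdicComplete (maximalIdeal O) O] [Module.Finite O S] in
theorem injective_lift (htn : IsDPTopNilpotent hI) :
    Function.Injective (fun χ : A →ₐ[O] S => (Ideal.Quotient.mkₐ O I).comp χ) := by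
  intro χ χ' hχ
  set s : Fin r → S := fun i => χ (y i) with hs_def
  set h : Fin r → S := fun i => χ' (y i) - χ (y i) with hh_def
  have hev : ∀ (φ : A →ₐ[O] S) (g : Q), aeval (fun i => φ (y i)) g = φ (aeval y g) :=
    fun φ g => (DFunLike.congr_fun (MvPolynomial.comp_aeval y φ) g).symm
  have hs : ∀ g ∈ L, aeval s g = 0 := fun g hg => by
    rw [hev, RingHom.mem_ker.1 hg, map_zero]
  have hkey : ∀ n, ∀ i, h i ∈ dpPow hI (n + 1) := by
    intro n
    induction n with
    | zero =>
      intro i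
      rw [dpPow_one]
      exact Ideal.Quotient.eq.1 (AlgHom.congr_fun hχ (y i)).symm
    | succ n ih =>
      intro i
      obtain ⟨g, hg0, hgj⟩ := hP.gen i
      have h1 := taylor_ker hP hI (k := n + 1) (by omega) (s := s)
        (fun g hg => by rw [hs g hg]; exact zero_mem _) ih hg0
      have h2 : aeval (s + h) g = 0 := by
        rw [show s + h = fun i => χ' (y i) by funext i; simp [hs_def, hh_def], hev, hg0, map_zero]
      have h3 : ∀ j, aeval s (pderiv j g) = if i = j then algebraMap O S a else 0 := by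
        intro j
        have := hs _ (hgj j)
        rw [map_sub, sub_eq_zero] at this
        rw [this]
        split_ifs <;> simp
      rw [h2, hs g hg0, sub_zero, zero_sub, Finset.sum_congr rfl fun j _ => by rw [h3 j],
        Finset.sum_eq_single i (fun j _ hj => by rw [if_neg (Ne.symm hj), zero_mul])
          (fun h => absurd (Finset.mem_univ i) h), if_pos rfl, neg_mem_iff,
        Ideal.mem_span_singleton_mul] at h1
      obtain ⟨z, hz, hze⟩ := h1
      have hreg : IsSMulRegular S a :=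
        Module.Flat.isSMulRegular_of_nonZeroDivisors (mem_nonZeroDivisors_of_ne_zero ha)
      have hzi : z = h i := hreg (by simpa [Algebra.smul_def] using hze)
      rw [← hzi]
      exact dpPow_antitone hI (by omega) hz
  refine AlgHom.ext fun z => ?_
  obtain ⟨g, rfl⟩ := hP.surj z
  rw [← hev, ← hev]
  congr 2
  funext i
  have h0 : h i ∈ (⊥ : Ideal S) := by
    rw [← htn, Submodule.mem_iInf]
    exact fun k => dpPow_antitone hI (Nat.le_succ k) (hkey k i)
  exact (sub_eq_zero.1 ((Submodule.mem_bot S).1 h0)).symm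

include hP in
omit [IsDomain O] [Module.Flat O S] in
set_option maxHeartbeats 400000 in
/-- One step of the Newton iteration. -/
theorem newton_step {k : ℕ} (hk : 1 ≤ k) {s : Fin r → S} (hR : ∀ i, s i ∈ (mPow O S 1).radical)
    (hIR : I ≤ (mPow O S 1).radical) (hs : ∀ g ∈ L, aeval s g ∈ 𝔞 * dpPow hI k)
    :
    ∃ s' : Fin r → S, (∀ i, s' i - s i ∈ dpPow hI k) ∧ (∀ i, s' i ∈ (mPow O S 1).radical) ∧
      ∀ g ∈ L, aeval s' g ∈ 𝔞 * dpPow hI (k + 1) := by
  haveI : IsNoetherianRing S := IsNoetherianRing.of_finite O S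
  obtain ⟨G, hG⟩ := Classical.axiom_of_choice fun i => hP.gen i
  choose z hz hze using fun i => Ideal.mem_span_singleton_mul.1 (hs (G i) (hG i).1)
  set h : Fin r → S := fun i => - z i with hh_def
  have hh : ∀ i, h i ∈ dpPow hI k := fun i => neg_mem (hz i)
  have hs' : ∀ g ∈ L, aeval s g ∈ 𝔞 := fun g hg => Ideal.mul_le_left (hs g hg)
  have hR' : ∀ i, (s + h) i ∈ (mPow O S 1).radical :=
    fun i => add_mem (hR i) (hIR (dpPow_le hI hk (hh i)))
  refine ⟨s + h, fun i => by simpa using hh i, hR', ?_⟩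
  have h2k : 𝔞 * dpPow hI (2 * k) ≤ 𝔞 * dpPow hI (k + 1) :=
    Ideal.mul_mono_right (dpPow_antitone hI (by omega))
  -- the new point still solves the equations modulo `a I^{[k]}`
  have hsk : ∀ g ∈ L, aeval (s + h) g ∈ 𝔞 * dpPow hI k := by
    intro g hg
    have h1 := Ideal.mul_mono_right (dpPow_antitone hI (show k ≤ 2 * k by omega))
      (taylor_ker hP hI hk hs' hh hg)
    have h2 : ∑ i, aeval s (pderiv i g) * h i ∈ 𝔞 * dpPow hI k :=
      sum_mem fun i _ => Ideal.mul_mem_mul (mem_span_a hs' _ (hP.deriv g hg i)) (hh i)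
    convert add_mem (add_mem h1 h2) (hs g hg) using 1
    ring
  -- the special elements gain one step
  have hGs : ∀ i, aeval (s + h) (G i) ∈ 𝔞 * dpPow hI (k + 1) := by
    intro i
    have h1 := h2k (taylor_ker hP hI hk hs' hh (hG i).1)
    have h2 : ∑ j, aeval s (pderiv j (G i)) * h j - algebraMap O S a * h i ∈ 𝔞 * dpPow hI (k + 1) := by
      have e : algebraMap O S a * h i =
          ∑ j, aeval s (if i = j then C a else 0 : Q) * h j := by
        rw [Finset.sum_eq_single i (fun j _ hj => by rw [if_neg (Ne.symm hj), map_zero, zero_mul])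
          (fun h => absurd (Finset.mem_univ i) h), if_pos rfl, MvPolynomial.aeval_C]
      rw [e, ← Finset.sum_sub_distrib]
      refine sum_mem fun j _ => ?_
      rw [← sub_mul, ← map_sub]
      have := Ideal.mul_mem_mul (hs _ ((hG i).2 j)) (hh j)
      rw [mul_assoc] at this
      refine Ideal.mul_mono_right (Ideal.mul_le.2 fun x hx y hy => ?_) this
      exact dpPow_antitone hI (by omega) (mul_mem_dpPow hI hx hy)
    convert add_mem h1 h2 using 1
    rw [hh_def]
    linear_combination -(hze i)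
  intro g hg
  choose p hp q hq hpq using fun i => Submodule.mem_sup.1 (hP.deriv g hg i)
  choose v hv using fun i => Ideal.mem_span_singleton'.1 (hp i)
  set g' : Q := g - ∑ i, v i * G i with hg'_def
  have hg'0 : g' ∈ L := sub_mem hg (sum_mem fun i _ => Ideal.mul_mem_left _ _ (hG i).1)
  have hg'1 : ∀ j, pderiv j g' ∈ L := by
    intro j
    have e : pderiv j g' = (pderiv j g - v j * C a) - ∑ i, pderiv j (v i) * G i -
        ∑ i, v i * (pderiv j (G i) - if i = j then C a else 0) := by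
      simp only [hg'_def, map_sub, map_sum, MvPolynomial.pderiv_mul, Finset.sum_add_distrib, mul_sub,
        Finset.sum_sub_distrib, mul_ite, mul_zero, Finset.sum_ite_eq', Finset.mem_univ, if_true]
      ring
    rw [e]
    refine sub_mem (sub_mem ?_ (sum_mem fun i _ => Ideal.mul_mem_left _ _ (hG i).1))
      (sum_mem fun i _ => Ideal.mul_mem_left _ _ ((hG i).2 j))
    rw [hv, ← hpq j, add_sub_cancel_left]
    exact hq j
  have h1 : aeval (s + h) g' ∈ 𝔞 * dpPow hI (k + 1) := by
    obtain ⟨M, hM⟩ := ((mPow O S 1).radical).exists_pow_le_of_le_radical_of_fg le_rfl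
      (IsNoetherian.noetherian _)
    refine mem_of_forall_mem_sup (O := O) _ fun N => ?_
    obtain ⟨p, hp, q, hq, hpq⟩ := Submodule.mem_sup.1 (hP.closed g' hg'0 hg'1 (M * N))
    rw [← hpq, map_add]
    refine add_mem (Ideal.mem_sup_left ?_) (Ideal.mem_sup_right ?_)
    · have : Ideal.map (aeval (s + h) : Q →ₐ[O] S).toRingHom (L * L) ≤ 𝔞 * dpPow hI (k + 1) := by
        have hle : Ideal.map (aeval (s + h) : Q →ₐ[O] S).toRingHom L ≤ 𝔞 * dpPow hI k :=
          Ideal.map_le_iff_le_comap.2 hsk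
        rw [Ideal.map_mul]
        refine (Ideal.mul_mono hle hle).trans ?_
        rw [mul_mul_mul_comm]
        refine Ideal.mul_mono Ideal.mul_le_right (Ideal.mul_le.2 fun x hx y hy => ?_)
        exact dpPow_antitone hI (by omega) (mul_mem_dpPow hI hx hy)
      exact this (Ideal.mem_map_of_mem _ hp)
    · have hJ : Ideal.map (aeval (s + h) : Q →ₐ[O] S).toRingHom (jIdeal O (Fin r)) ≤
          (mPow O S 1).radical := by
        rw [jIdeal, Ideal.map_sup, sup_le_iff, Ideal.map_map, Ideal.map_span, Ideal.span_le]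
        refine ⟨Ideal.le_radical.trans' (le_of_eq ?_), ?_⟩
        · rw [mPow, pow_one]
          congr 1
          exact RingHom.ext fun c => by simp
        · rintro _ ⟨_, ⟨i, rfl⟩, rfl⟩
          simpa using hR' i
      have := Ideal.mem_map_of_mem (aeval (s + h) : Q →ₐ[O] S).toRingHom hq
      rw [Ideal.map_pow, pow_mul] at this
      have h3 := Ideal.pow_right_mono ((Ideal.pow_right_mono hJ M).trans hM) N this
      rw [mPow, ← Ideal.map_pow, pow_one] at h3
      exact h3
  rw [show g = g' + ∑ i, v i * G i by rw [hg'_def]; ring, map_add, map_sum]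
  refine add_mem h1 (sum_mem fun i _ => ?_)
  rw [map_mul]
  exact Ideal.mul_mem_left _ _ (hGs i)

include hP htn in
omit [IsDomain O] [Module.Flat O S] in
set_option maxHeartbeats 400000 in
theorem exists_lift (ψ : A →ₐ[O] S ⧸ 𝔞 * I) :
    ∃ χ : A →ₐ[O] S, ∀ z, Ideal.Quotient.mk I (χ z) =
      Ideal.Quotient.factor (Ideal.mul_le_right (I := 𝔞) (J := I)) (ψ z) := by
  have hIR : I ≤ (mPow O S 1).radical := le_radical hI htn
  choose s₀ hs₀ using fun i => Ideal.Quotient.mk_surjective (ψ (y i))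
  have hR₀ : ∀ i, s₀ i ∈ (mPow O S 1).radical := by
    intro i
    obtain ⟨N, hN⟩ := hP.nil i
    have h1 : ψ (y i ^ N) ∈ ((maximalIdeal O).map (algebraMap O A)).map ψ.toRingHom :=
      Ideal.mem_map_of_mem _ hN
    rw [Ideal.map_map, show ψ.toRingHom.comp (algebraMap O A) =
      (Ideal.Quotient.mk (𝔞 * I)).comp (algebraMap O S) from RingHom.ext fun c => ψ.commutes c,
      ← Ideal.map_map, map_pow, ← hs₀ i, ← map_pow] at h1
    obtain ⟨z, hz, hze⟩ := (Ideal.mem_map_iff_of_surjective _ Ideal.Quotient.mk_surjective).1 h1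
    have hzm : z ∈ mPow O S 1 := by rwa [mPow, pow_one]
    have hd : z - s₀ i ^ N ∈ (mPow O S 1).radical := hIR (Ideal.mul_le_right (Ideal.Quotient.eq.1 hze))
    have h3 : s₀ i ^ N ∈ (mPow O S 1).radical := by
      rw [show s₀ i ^ N = z - (z - s₀ i ^ N) by ring]
      exact sub_mem (Ideal.le_radical hzm) hd
    exact Ideal.radical_idem (mPow O S 1) ▸ ⟨N, h3⟩
  have hev₀ : ∀ g : Q, Ideal.Quotient.mk (𝔞 * I) (aeval s₀ g) = ψ (aeval y g) := by
    intro g
    have e1 := DFunLike.congr_fun (MvPolynomial.comp_aeval y ψ) g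
    have e2 := DFunLike.congr_fun (MvPolynomial.comp_aeval s₀ (Ideal.Quotient.mkₐ O (𝔞 * I))) g
    refine e2.trans (Eq.trans ?_ e1.symm)
    congr 2
    funext i
    exact hs₀ i
  have hbase : ∀ g ∈ L, aeval s₀ g ∈ 𝔞 * dpPow hI (0 + 1) := by
    intro g hg
    rw [zero_add, dpPow_one, ← Ideal.Quotient.eq_zero_iff_mem, hev₀, RingHom.mem_ker.1 hg, map_zero]
  let T : ℕ → Type u := fun n => {s : Fin r → S // (∀ i, s i ∈ (mPow O S 1).radical) ∧
    ∀ g ∈ L, aeval s g ∈ 𝔞 * dpPow hI (n + 1)}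
  have step : ∀ n (s : T n), ∃ s' : T (n + 1), ∀ i, s'.1 i - s.1 i ∈ dpPow hI (n + 1) := by
    intro n s
    obtain ⟨s', h1, h2, h3⟩ := newton_step hP hI (by omega) s.2.1 hIR s.2.2
    exact ⟨⟨s', h2, h3⟩, h1⟩
  choose next hnext using step
  let sq : ∀ n, T n := fun n => Nat.rec ⟨s₀, hR₀, hbase⟩ next n
  have hmono : ∀ m n, m ≤ n → ∀ i, (sq n).1 i - (sq m).1 i ∈ dpPow hI (m + 1) := by
    intro m n hmn i
    induction n, hmn using Nat.le_induction with
    | base => simp
    | succ n hmn ih =>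
      rw [show (sq (n + 1)).1 i - (sq m).1 i =
        ((next n (sq n)).1 i - (sq n).1 i) + ((sq n).1 i - (sq m).1 i) by
          show (next n (sq n)).1 i - _ = _; ring]
      exact add_mem (dpPow_antitone hI (by omega) (hnext n (sq n) i)) ih
  choose κ hκ using fun N => exists_dpPow_le (O := O) hI htn N
  let K : ℕ → ℕ := fun N => ∑ M ∈ Finset.range (N + 1), κ M
  have hK : ∀ N, κ N ≤ K N ∧ K N ≤ K (N + 1) := fun N =>
    ⟨Finset.single_le_sum (fun M _ => Nat.zero_le _) (Finset.self_mem_range_succ N),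
      Finset.sum_le_sum_of_subset (by simp)⟩
  choose s hs using fun i => exists_limit (O := O) (fun N => (sq (K N)).1 i) fun N =>
    hκ N (dpPow_antitone hI (by have := (hK N).1; omega) (hmono _ _ (hK N).2 i))
  have hsn : ∀ n i, s i - (sq n).1 i ∈ dpPow hI (n + 1) := by
    intro n i
    refine mem_of_forall_mem_sup (O := O) _ fun N => ?_
    rw [show s i - (sq n).1 i = ((sq (max (K N) n)).1 i - (sq n).1 i) +
      ((s i - (sq (K N)).1 i) - ((sq (max (K N) n)).1 i - (sq (K N)).1 i)) by ring]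
    refine add_mem (Ideal.mem_sup_left (hmono _ _ (le_max_right _ _) i))
      (Ideal.mem_sup_right (sub_mem (hs i N) ?_))
    exact hκ N (dpPow_antitone hI (by have := (hK N).1; omega) (hmono _ _ (le_max_left _ _) i))
  have hsL : ∀ g ∈ L, aeval s g = 0 := by
    intro g hg
    rw [← Ideal.mem_bot, ← htn, Submodule.mem_iInf]
    intro n
    refine dpPow_antitone hI (Nat.le_succ n) ?_
    rw [show aeval s g = (aeval s g - aeval (sq n).1 g) + aeval (sq n).1 g by ring]
    exact add_mem (aeval_sub_mem (fun i => hsn n i) g) (Ideal.mul_le_right ((sq n).2.2 g hg))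
  refine ⟨(Ideal.Quotient.liftₐ L (aeval s) hsL).comp
    (Ideal.quotientKerAlgEquivOfSurjective hP.surj).symm.toAlgHom, fun z => ?_⟩
  obtain ⟨g, rfl⟩ := hP.surj z
  rw [← hev₀, Ideal.Quotient.factor_mk, AlgHom.comp_apply]
  have e : (Ideal.quotientKerAlgEquivOfSurjective hP.surj).symm (aeval y g) =
      Ideal.Quotient.mk L g := by
    rw [AlgEquiv.symm_apply_eq]; rfl
  change Ideal.Quotient.mk I (Ideal.Quotient.liftₐ L (aeval s) hsL
    ((Ideal.quotientKerAlgEquivOfSurjective hP.surj).symm (aeval y g))) = _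
  rw [e, Ideal.Quotient.eq, ← dpPow_one hI]
  exact aeval_sub_mem (fun i => hsn 0 i) g

include hP htn ha in
/-- Fontaine's lifting lemma. -/
theorem result : Function.Injective (fun χ : A →ₐ[O] S => (Ideal.Quotient.mkₐ O I).comp χ) ∧
      Set.range (fun χ : A →ₐ[O] S => (Ideal.Quotient.mkₐ O I).comp χ) =
        Set.range (fun ψ : A →ₐ[O] (S ⧸ 𝔞 * I) =>
          (Ideal.Quotient.factorₐ O (Ideal.mul_le_right (I := 𝔞) (J := I))).comp ψ) := by
  refine ⟨injective_lift hP hI ha htn, Set.ext fun φ => ⟨?_, ?_⟩⟩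
  · rintro ⟨χ, rfl⟩
    exact ⟨(Ideal.Quotient.mkₐ O _).comp χ, AlgHom.ext fun z => rfl⟩
  · rintro ⟨ψ, rfl⟩
    obtain ⟨χ, hχ⟩ := exists_lift hP hI htn ψ
    exact ⟨χ, AlgHom.ext hχ⟩

end FontaineLib
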