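import Groth.Agent.FontaineLib.Ext
import Mathlib.FieldTheory.PrimitiveElement
import Mathlib.FieldTheory.Perfect
import Mathlib.RingTheory.LocalRing.ResidueField.Instances
import Mathlib.FieldTheory.Minpoly.IsIntegrallyClosed

/-! A generator of a ring of integers, the bound on inertia, and the distances to the conjugates. -/

set_option linter.unusedSectionVars false

universe u

open IsLocalRing IsDiscreteValuationRing Polynomial

local notation "𝔪" => IsLocalRing.maximalIdeal

namespace FontaineLib

theorem ord_neg {T : Type u} [CommRing T] [IsDomain T] [IsDiscreteValuationRing T] (x : T) :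
    ord (-x) = ord x := by simp [ord, AddValuation.map_neg]

theorem ord_irreducible {T : Type u} [CommRing T] [IsDomain T] [IsDiscreteValuationRing T] {π : T}
    (hπ : Irreducible π) : ord π = 1 := by simp [ord, addVal_uniformizer hπ]

theorem irreducible_of_ord {T : Type u} [CommRing T] [IsDomain T] [IsDiscreteValuationRing T] {π : T}
    (h0 : π ≠ 0) (h1 : ord π = 1) : Irreducible π := by
  obtain ⟨ϖ, hϖ⟩ := exists_irreducible T
  obtain ⟨n, u, rfl⟩ := IsDiscreteValuationRing.eq_unit_mul_pow_irreducible h0 hϖ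
  rw [ord_mul u.ne_zero (pow_ne_zero _ hϖ.ne_zero), (ord_eq_zero_iff u.ne_zero).2 u.isUnit,
    ord_pow hϖ.ne_zero, ord_irreducible hϖ] at h1
  have : n = 1 := by omega
  subst this
  rw [pow_one]
  exact (irreducible_units_mul u).2 hϖ

section Generator

variable {O S : Type u} [CommRing O] [IsDomain O] [IsDiscreteValuationRing O]
  [PerfectField (ResidueField O)]
  [CommRing S] [IsDomain S] [IsDiscreteValuationRing S] [Algebra O S] [Module.Finite O S]
  [Module.IsTorsionFree O S]

/-- A generator `α` of the ring of integers, with a polynomial `g` lifting the minimal polynomial of its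
residue such that `g(α)` is a uniformizer. -/
theorem exists_generator :
    ∃ (α : S) (g : O[X]), Algebra.adjoin O {α} = ⊤ ∧ Irreducible (aeval α g) ∧
      ((g.map ((IsLocalRing.residue S).comp (algebraMap O S)))).Separable := by
  classical
  have hinj := Module.isTorsionFree_iff_algebraMap_injective.1 (inferInstance : Module.IsTorsionFree O S)
  haveI : IsLocalHom (algebraMap O S) := RingHom.IsIntegral.isLocalHom
    (algebraMap_isIntegral_iff.2 inferInstance) hinj
  let k := ResidueField O
  let l := ResidueField S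
  haveI : Algebra.IsAlgebraic k l := inferInstance
  haveI : Algebra.IsSeparable k l := inferInstance
  obtain ⟨b, hb⟩ := Field.exists_primitive_element k l
  obtain ⟨g, hg⟩ := Polynomial.map_surjective (IsLocalRing.residue O) IsLocalRing.residue_surjective
    (minpoly k b)
  have hcomp : (IsLocalRing.residue S).comp (algebraMap O S) =
      (algebraMap k l).comp (IsLocalRing.residue O) := RingHom.ext fun c => rfl
  have hsep : (g.map ((IsLocalRing.residue S).comp (algebraMap O S))).Separable := by
    rw [hcomp, ← Polynomial.map_map, hg]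
    exact Polynomial.Separable.map (f := algebraMap k l) (Algebra.IsSeparable.isSeparable k b)
  have hev : ∀ (q : O[X]) (z : S), IsLocalRing.residue S (aeval z q) =
      aeval (IsLocalRing.residue S z) (q.map (IsLocalRing.residue O)) := by
    intro q z
    rw [aeval_def, aeval_def, eval₂_map, Polynomial.hom_eval₂, hcomp]
  obtain ⟨α₀, hα₀⟩ := IsLocalRing.residue_surjective b
  obtain ⟨ϖ, hϖ⟩ := exists_irreducible S
  have hϖm : ϖ ∈ 𝔪 S := hϖ.maximalIdeal_eq ▸ Ideal.mem_span_singleton_self ϖ
  have hgα : aeval α₀ g ∈ 𝔪 S := by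
    rw [← IsLocalRing.residue_eq_zero_iff, hev, hα₀, hg, minpoly.aeval]
  have hgd : IsUnit (aeval α₀ (derivative g)) := by
    by_contra h
    have h1 : IsLocalRing.residue S (aeval α₀ (derivative g)) = 0 := IsLocalRing.residue_eq_zero_iff _ |>.2 h
    rw [hev, hα₀, ← derivative_map, hg] at h1
    exact (Algebra.IsSeparable.isSeparable k b).aeval_derivative_ne_zero (minpoly.aeval k b) h1
  obtain ⟨α, hα, hirr⟩ : ∃ α, IsLocalRing.residue S α = b ∧ Irreducible (aeval α g) := by
    by_cases h : aeval α₀ g ∈ 𝔪 S ^ 2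
    · refine ⟨α₀ + ϖ, by rw [map_add, hα₀, (IsLocalRing.residue_eq_zero_iff _).2 hϖm, add_zero], ?_⟩
      obtain ⟨c, hc⟩ := binomExpansion (g.map (algebraMap O S)) α₀ ϖ
      rw [derivative_map, eval_map_algebraMap, eval_map_algebraMap, eval_map_algebraMap] at hc
      rw [hc]
      have h1 : aeval α₀ (derivative g) * ϖ ≠ 0 := mul_ne_zero hgd.ne_zero hϖ.ne_zero
      have h2 : aeval α₀ g + c * ϖ ^ 2 ∈ 𝔪 S ^ 2 :=
        add_mem h (Ideal.mul_mem_left _ _ (Ideal.pow_mem_pow hϖm 2))
      have h3 : ord (aeval α₀ (derivative g) * ϖ) = 1 := by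
        rw [ord_mul hgd.ne_zero hϖ.ne_zero, (ord_eq_zero_iff hgd.ne_zero).2 hgd, ord_irreducible hϖ]
      rw [show aeval α₀ g + aeval α₀ (derivative g) * ϖ + c * ϖ ^ 2 =
        aeval α₀ (derivative g) * ϖ + (aeval α₀ g + c * ϖ ^ 2) by ring]
      set u := aeval α₀ (derivative g) * ϖ
      set v := aeval α₀ g + c * ϖ ^ 2
      rcases eq_or_ne v 0 with hv | hv
      · rw [hv, add_zero]; exact irreducible_of_ord h1 h3
      have hv2 := (le_ord_iff hv).2 h2
      have huv : u + v ≠ 0 := fun e => by
        rw [eq_neg_of_add_eq_zero_left e, ord_neg] at h3; omega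
      refine irreducible_of_ord huv ?_
      have h4 := min_ord_le_ord_add h1 hv huv
      have h5 := min_ord_le_ord_add huv (neg_ne_zero.2 hv) (by simpa using h1)
      rw [add_neg_cancel_right, ord_neg] at h5
      omega
    · refine ⟨α₀, hα₀, irreducible_of_ord (fun h0 => h (h0 ▸ zero_mem _)) ?_⟩
      have h0 : aeval α₀ g ≠ 0 := fun h0 => h (h0 ▸ zero_mem _)
      have h1 := (le_ord_iff (m := 1) h0).2 (by rwa [pow_one])
      by_contra h2
      exact h ((le_ord_iff h0).1 (by omega))
  refine ⟨α, g, ?_, hirr, hsep⟩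
  set W := Algebra.adjoin O {α}
  have hπW : aeval α g ∈ W := Polynomial.aeval_mem_adjoin_singleton O α
  have hres : ∀ z : S, ∃ w ∈ W, z - w ∈ 𝔪 S := by
    intro z
    have hz : IsLocalRing.residue S z ∈ (IntermediateField.adjoin k {b}).toSubalgebra := by
      rw [hb]; trivial
    rw [IntermediateField.adjoin_simple_toSubalgebra_of_isAlgebraic (Algebra.IsAlgebraic.isAlgebraic b),
      Algebra.adjoin_singleton_eq_range_aeval] at hz
    obtain ⟨q, hq⟩ := hz
    obtain ⟨q', rfl⟩ := Polynomial.map_surjective (IsLocalRing.residue O) IsLocalRing.residue_surjective q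
    refine ⟨aeval α q', Polynomial.aeval_mem_adjoin_singleton O α, ?_⟩
    rw [← IsLocalRing.residue_eq_zero_iff, map_sub, hev, hα, sub_eq_zero]
    exact hq.symm
  have happ : ∀ (j : ℕ) (z : S), ∃ w ∈ W, z - w ∈ 𝔪 S ^ j := by
    intro j
    induction j with
    | zero => exact fun z => ⟨0, zero_mem _, by simp⟩
    | succ j ih =>
      intro z
      obtain ⟨w, hw, hwz⟩ := hres z
      rw [hirr.maximalIdeal_eq, Ideal.mem_span_singleton] at hwz
      obtain ⟨z', hz'⟩ := hwz
      obtain ⟨w', hw', hwz'⟩ := ih z'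
      refine ⟨w + aeval α g * w', add_mem hw (mul_mem hπW hw'), ?_⟩
      rw [show z - (w + aeval α g * w') = aeval α g * (z' - w') by rw [mul_sub, ← hz']; ring, pow_succ']
      exact Ideal.mul_mem_mul (hirr.maximalIdeal_eq ▸ Ideal.mem_span_singleton_self _) hwz'
  obtain ⟨π, hπ⟩ := exists_irreducible O
  have hπ0 : algebraMap O S π ≠ 0 := fun h => hπ.ne_zero (hinj (h.trans (map_zero _).symm))
  have hW : Subalgebra.toSubmodule W = ⊤ := by
    rw [eq_top_iff]
    refine Submodule.le_of_le_smul_of_le_jacobson_bot (I := 𝔪 O) Module.Finite.fg_top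
      (IsLocalRing.maximalIdeal_le_jacobson _) fun z _ => ?_
    obtain ⟨w, hw, hwz⟩ := happ (ord (algebraMap O S π)) z
    refine Submodule.mem_sup.2 ⟨w, hw, z - w, ?_, add_sub_cancel w z⟩
    rw [Ideal.smul_top_eq_map, Submodule.restrictScalars_mem, hπ.maximalIdeal_eq, Ideal.map_span,
      Set.image_singleton, Ideal.mem_span_singleton]
    rcases eq_or_ne (z - w) 0 with h | h
    · exact h ▸ dvd_zero _
    · exact dvd_of_ord_le hπ0 h ((le_ord_iff h).2 hwz)
  exact Algebra.toSubmodule_eq_top.1 hW

open scoped Classical in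
/-- The number of conjugates of `α` congruent to `α` is at most the ramification index. -/
theorem card_congruent_le [IsIntegrallyClosed O] {α : S} {g : O[X]} (hirr : Irreducible (aeval α g))
    (hadj : Algebra.adjoin O {α} = ⊤)
    (hsep : (g.map ((IsLocalRing.residue S).comp (algebraMap O S))).Separable)
    {π : O} (hπ : Irreducible π)
    {ι : Type*} [Fintype ι] [DecidableEq ι] (r : ι → S)
    (hf : (minpoly O α).map (algebraMap O S) = ∏ i, (X - C (r i))) :
    (Finset.univ.filter fun i => IsLocalRing.residue S (r i) = IsLocalRing.residue S α).card ≤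
      ord (algebraMap O S π) := by
  classical
  set e := ord (algebraMap O S π)
  have hinj := Module.isTorsionFree_iff_algebraMap_injective.1 (inferInstance : Module.IsTorsionFree O S)
  haveI : IsLocalHom (algebraMap O S) := RingHom.IsIntegral.isLocalHom
    (algebraMap_isIntegral_iff.2 inferInstance) hinj
  have hπ0 : algebraMap O S π ≠ 0 := fun h => hπ.ne_zero (hinj (h.trans (map_zero _).symm))
  obtain ⟨u, hu⟩ : algebraMap O S π ∣ aeval α g ^ e := by
    refine dvd_of_ord_le hπ0 (pow_ne_zero _ hirr.ne_zero) ?_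
    rw [ord_pow hirr.ne_zero, ord_irreducible hirr, mul_one]
  obtain ⟨U, hU⟩ : ∃ U : O[X], aeval α U = u := by
    have : u ∈ Algebra.adjoin O {α} := hadj ▸ trivial
    rw [Algebra.adjoin_singleton_eq_range_aeval] at this
    exact this
  have hdvd : minpoly O α ∣ g ^ e - C π * U :=
    minpoly.isIntegrallyClosed_dvd (IsIntegral.of_finite O α) (by
      rw [map_sub, map_pow, map_mul, aeval_C, hU, hu, sub_self])
  set ρ := (IsLocalRing.residue S).comp (algebraMap O S)
  have hρπ : ρ π = 0 := by
    show IsLocalRing.residue S (algebraMap O S π) = 0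
    rw [IsLocalRing.residue_eq_zero_iff]
    exact fun hu => hπ.not_isUnit (isUnit_of_map_unit _ π hu)
  set a := IsLocalRing.residue S α
  set q := (Finset.univ.filter fun i => IsLocalRing.residue S (r i) = a).card
  have h1 : (X - C a) ^ q ∣ g.map ρ ^ e := by
    have h2 := Polynomial.map_dvd ρ hdvd
    rw [Polynomial.map_sub, Polynomial.map_pow, Polynomial.map_mul, map_C, hρπ, map_zero, zero_mul, sub_zero,
      ← Polynomial.map_map, hf, Polynomial.map_prod] at h2
    refine dvd_trans ?_ h2
    have : (X - C a) ^ q = ∏ i ∈ Finset.univ.filter (fun i => IsLocalRing.residue S (r i) = a),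
        ((X - C (r i)).map (IsLocalRing.residue S)) := by
      rw [← Finset.prod_const]
      refine Finset.prod_congr rfl fun i hi => ?_
      rw [Polynomial.map_sub, map_X, map_C, (Finset.mem_filter.1 hi).2]
    rw [this]
    exact Finset.prod_dvd_prod_of_subset _ _ _ (Finset.filter_subset _ _)
  have hg0 : g.map ρ ≠ 0 := hsep.ne_zero
  have h2 := (Polynomial.le_rootMultiplicity_iff (pow_ne_zero e hg0)).2 h1
  have h3 : ∀ n, rootMultiplicity a (g.map ρ ^ n) ≤ n := by
    intro n
    induction n with
    | zero =>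
      rw [pow_zero]
      exact le_of_eq (Polynomial.rootMultiplicity_eq_zero (by simp))
    | succ n ih =>
      rw [pow_succ, Polynomial.rootMultiplicity_mul (mul_ne_zero (pow_ne_zero n hg0) hg0)]
      have := Polynomial.rootMultiplicity_le_one_of_separable hsep a
      omega
  exact h2.trans (h3 e)

end Generator

section Distance

variable {T : Type u} [CommRing T] [IsDomain T] [IsDiscreteValuationRing T]

/-- The distances from a point to the translates of a point under a group. -/
theorem exists_closest {G : Type*} [Group G] [Fintype G] [DecidableEq G] (a : G → T) (b : T) (i : G → ℕ)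
    (hne : ∀ σ τ, τ ≠ 1 → a σ ≠ a (σ * τ)) (hd : ∀ σ τ, τ ≠ 1 → ord (a σ - a (σ * τ)) = i τ)
    (hb : ∀ σ, b ≠ a σ) :
    ∃ σ₀, ord (∏ σ, (b - a σ)) =
      ord (b - a σ₀) + ∑ τ ∈ Finset.univ.erase (1 : G), min (ord (b - a σ₀)) (i τ) := by
  classical
  obtain ⟨σ₀, -, hmax⟩ := Finset.exists_max_image Finset.univ (fun σ => ord (b - a σ)) Finset.univ_nonempty
  refine ⟨σ₀, ?_⟩
  have hprod : ∀ s : Finset G, ord (∏ σ ∈ s, (b - a σ)) = ∑ σ ∈ s, ord (b - a σ) := by
    intro s
    induction s using Finset.induction with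
    | empty => simp [ord, addVal_one]
    | insert j s hj ih =>
      rw [Finset.prod_insert hj, Finset.sum_insert hj,
        ord_mul (sub_ne_zero.2 (hb j)) (Finset.prod_ne_zero_iff.2 fun σ _ => sub_ne_zero.2 (hb σ)), ih]
  rw [hprod, ← Equiv.sum_comp (Equiv.mulLeft σ₀) (fun σ => ord (b - a σ)),
    ← Finset.add_sum_erase _ _ (Finset.mem_univ (1 : G))]
  simp only [Equiv.coe_mulLeft, mul_one]
  congr 1
  refine Finset.sum_congr rfl fun τ hτ => ?_
  have hτ1 : τ ≠ 1 := (Finset.mem_erase.1 hτ).1
  have hx : b - a σ₀ ≠ 0 := sub_ne_zero.2 (hb σ₀)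
  have hy : a σ₀ - a (σ₀ * τ) ≠ 0 := sub_ne_zero.2 (hne _ _ hτ1)
  have hxy : b - a (σ₀ * τ) ≠ 0 := sub_ne_zero.2 (hb _)
  have h1 := min_ord_le_ord_add hx hy (by simpa using hxy)
  have h2 := min_ord_le_ord_add hxy (neg_ne_zero.2 hx) (by
    rw [show b - a (σ₀ * τ) + -(b - a σ₀) = a σ₀ - a (σ₀ * τ) by ring]; exact hy)
  rw [sub_add_sub_cancel] at h1
  rw [show b - a (σ₀ * τ) + -(b - a σ₀) = a σ₀ - a (σ₀ * τ) by ring, ord_neg] at h2
  have h3 : ord (b - a (σ₀ * τ)) ≤ ord (b - a σ₀) := hmax _ (Finset.mem_univ _)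
  rw [← hd σ₀ τ hτ1]
  omega

end Distance

end FontaineLib
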