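import Groth.Agent.FontaineLib.DPFilt
import Mathlib.Algebra.MvPolynomial.PDeriv

/-! Taylor's formula with divided powers, and the chain rule for derivations of polynomials. -/

universe u v w

open W4c1noabschz1 (dpPow)
open MvPolynomial (pderiv aeval X C)

namespace FontaineLib

variable {O : Type v} [CommRing O] {ι : Type w} {S : Type u} [CommRing S] [Algebra O S]
  {I : Ideal S} (hI : DividedPowers I)

/-- Taylor's formula in one variable, with divided powers. -/
theorem aeval_update [DecidableEq ι] (i : ι) (s : ι → S) {t : S} (ht : t ∈ I)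
    (g : MvPolynomial ι O) :
    ∃ B, ∀ B' ≥ B, aeval (Function.update s i (s i + t)) g =
      ∑ n ∈ Finset.range B', aeval s ((pderiv i)^[n] g) * hI.dpow n t := by
  induction g using MvPolynomial.induction_on with
  | C c =>
    refine ⟨1, fun B' hB' => ?_⟩
    obtain ⟨B', rfl⟩ : ∃ m, B' = m + 1 := ⟨B' - 1, by omega⟩
    rw [Finset.sum_range_succ']
    have hz : ∀ n, (pderiv i)^[n + 1] (C c : MvPolynomial ι O) = 0 := by
      intro n
      induction n with
      | zero => simp
      | succ n ih => rw [Function.iterate_succ_apply', ih, map_zero]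
    simp [hz, hI.dpow_zero ht]
  | add p q hp hq =>
    obtain ⟨B, hB⟩ := hp
    obtain ⟨B₂, hB₂⟩ := hq
    refine ⟨max B B₂, fun B' hB' => ?_⟩
    rw [map_add, hB B' (le_of_max_le_left hB'), hB₂ B' (le_of_max_le_right hB'),
      ← Finset.sum_add_distrib]
    refine Finset.sum_congr rfl fun n _ => ?_
    rw [iterate_map_add, map_add, add_mul]
  | mul_X g j hg =>
    obtain ⟨B, hB⟩ := hg
    refine ⟨B + 1, fun B' hB' => ?_⟩
    obtain ⟨m, rfl⟩ : ∃ m, B' = m + 1 := ⟨B' - 1, by omega⟩
    rw [map_mul, MvPolynomial.aeval_X]
    by_cases hj : j = i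
    · subst hj
      have hD : ∀ n, (pderiv j)^[n + 1] (g * X j) =
          (pderiv j)^[n + 1] g * X j + ((n + 1 : ℕ) : MvPolynomial ι O) * (pderiv j)^[n] g := by
        intro n
        induction n with
        | zero =>
          simp only [zero_add, Function.iterate_one, Function.iterate_zero, id_eq, Nat.cast_one,
            one_mul, MvPolynomial.pderiv_mul, MvPolynomial.pderiv_X_self, mul_one]
        | succ n ih =>
          rw [Function.iterate_succ_apply', ih, map_add, MvPolynomial.pderiv_mul,
            MvPolynomial.pderiv_X_self, mul_one, MvPolynomial.pderiv_mul,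
            Derivation.map_natCast, zero_mul, zero_add,
            ← Function.iterate_succ_apply' (pderiv j) (n + 1),
            ← Function.iterate_succ_apply' (pderiv j) n]
          push_cast
          ring
      rw [Function.update_self, Finset.sum_range_succ', Function.iterate_zero, id_eq, map_mul,
        MvPolynomial.aeval_X]
      simp only [hD, map_add, map_mul, MvPolynomial.aeval_X, map_natCast, add_mul,
        Finset.sum_add_distrib]
      rw [mul_add, hB (m + 1) (by omega), Finset.sum_range_succ', Function.iterate_zero, id_eq]
      have hs : (∑ x ∈ Finset.range m, ((x + 1 : ℕ) : S) * aeval s ((pderiv j)^[x] g) * hI.dpow (x + 1) t)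
          = (∑ x ∈ Finset.range m, aeval s ((pderiv j)^[x] g) * hI.dpow x t) * t := by
        rw [Finset.sum_mul]
        refine Finset.sum_congr rfl fun x _ => ?_
        have := hI.mul_dpow (m := x) (n := 1) ht
        rw [hI.dpow_one ht, Nat.choose_succ_self_right] at this
        linear_combination (-(aeval s ((pderiv j)^[x] g))) * this
      rw [hs, ← hB m (by omega), hB (m + 1) (by omega), Finset.sum_range_succ', Function.iterate_zero,
        id_eq, add_mul, Finset.sum_mul, add_right_comm]
      simp only [mul_right_comm _ (s j)]
    · have hD : ∀ n, (pderiv i)^[n] (g * X j) = (pderiv i)^[n] g * X j := by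
        intro n
        induction n with
        | zero => rfl
        | succ n ih =>
          rw [Function.iterate_succ_apply', ih, MvPolynomial.pderiv_mul,
            MvPolynomial.pderiv_X_of_ne hj, mul_zero, add_zero, ← Function.iterate_succ_apply' (pderiv i) n]
      rw [Function.update_of_ne hj, hB (m + 1) (by omega), Finset.sum_mul]
      refine Finset.sum_congr rfl fun n _ => ?_
      rw [hD, map_mul, MvPolynomial.aeval_X]
      ring

variable [Fintype ι]

/-- The chain rule for a derivation evaluated at polynomials. -/
theorem derivation_aeval {M : Type*} [AddCommGroup M] [Module O M] {B : Type*} [CommRing B]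
    [Algebra O B] [Module B M] (D : Derivation O B M) (y : ι → B) (g : MvPolynomial ι O) :
    D (aeval y g) = ∑ i, aeval y (pderiv i g) • D (y i) := by
  classical
  induction g using MvPolynomial.induction_on with
  | C c => simp
  | add p q hp hq =>
    rw [map_add, map_add, hp, hq, ← Finset.sum_add_distrib]
    exact Finset.sum_congr rfl fun i _ => by rw [map_add, map_add, add_smul]
  | mul_X p j hp =>
    rw [map_mul, Derivation.leibniz, MvPolynomial.aeval_X, hp, Finset.smul_sum]
    simp only [MvPolynomial.pderiv_mul, map_add, map_mul, add_smul, Finset.sum_add_distrib,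
      MvPolynomial.aeval_X]
    rw [add_comm]
    congr 1
    · exact Finset.sum_congr rfl fun i _ => by rw [mul_comm, mul_smul]
    · rw [Finset.sum_eq_single j (fun i _ hij => by rw [MvPolynomial.pderiv_X_of_ne (Ne.symm hij)]; simp)
        (fun h => absurd (Finset.mem_univ j) h), MvPolynomial.pderiv_X_self, map_one, mul_one]

omit [Fintype ι] in
theorem aeval_sub_mem {K : Ideal S} {s s' : ι → S} (h : ∀ i, s' i - s i ∈ K) (g : MvPolynomial ι O) :
    aeval s' g - aeval s g ∈ K := by
  induction g using MvPolynomial.induction_on with
  | C c => simp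
  | add p q hp hq => rw [map_add, map_add, add_sub_add_comm]; exact add_mem hp hq
  | mul_X p i hp =>
    rw [map_mul, map_mul, MvPolynomial.aeval_X, MvPolynomial.aeval_X,
      show aeval s' p * s' i - aeval s p * s i =
        (aeval s' p - aeval s p) * s' i + aeval s p * (s' i - s i) by ring]
    exact add_mem (K.mul_mem_right _ hp) (K.mul_mem_left _ (h i))

/-- Second order Taylor estimate: if all the derivatives of `g` of positive order are divisible by `a`
at `s`, then `g (s + h)` agrees with its linear part modulo `a I^{[2k]}`. -/
theorem taylor (M : Ideal (MvPolynomial ι O)) (hM : ∀ g ∈ M, ∀ i, pderiv i g ∈ M)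
    (a : S) (s : ι → S) (hs : ∀ g ∈ M, aeval s g ∈ Ideal.span {a}) {k : ℕ} (hk : 1 ≤ k)
    (h : ι → S) (hh : ∀ i, h i ∈ dpPow hI k)
    {g : MvPolynomial ι O} (hg : ∀ i, pderiv i g ∈ M) :
    aeval (s + h) g - aeval s g - ∑ i, aeval s (pderiv i g) * h i ∈
      Ideal.span {a} * dpPow hI (2 * k) := by
  classical
  suffices H : ∀ T : Finset ι, ∀ g : MvPolynomial ι O, (∀ i, pderiv i g ∈ M) →
      aeval (fun i => if i ∈ T then s i + h i else s i) g - aeval s g -
        ∑ i ∈ T, aeval s (pderiv i g) * h i ∈ Ideal.span {a} * dpPow hI (2 * k) by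
    have e : (fun i => if i ∈ (Finset.univ : Finset ι) then s i + h i else s i) = s + h := by
      funext i; simp
    have := H Finset.univ g hg
    rwa [e] at this
  intro T
  induction T using Finset.induction with
  | empty => intro g _; simp
  | insert j T hj ih =>
    intro g hg
    set u : ι → S := fun i => if i ∈ T then s i + h i else s i with hu
    have hupd : (fun i => if i ∈ insert j T then s i + h i else s i) =
        Function.update u j (u j + h j) := by
      funext i
      by_cases hi : i = j
      · subst hi; simp [hu, hj]
      · simp [hu, hi]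
    have h1 : ∀ q ∈ M, aeval u q ∈ Ideal.span {a} ∧
        aeval u q - aeval s q ∈ Ideal.span {a} * dpPow hI k := by
      intro q hq
      have h2 := ih q (hM q hq)
      have h3 : aeval u q - aeval s q ∈ Ideal.span {a} * dpPow hI k := by
        rw [show aeval u q - aeval s q = (aeval u q - aeval s q - ∑ i ∈ T, aeval s (pderiv i q) * h i) +
          ∑ i ∈ T, aeval s (pderiv i q) * h i by ring]
        refine add_mem (Ideal.mul_mono_right (dpPow_antitone hI (by omega)) h2) (sum_mem fun i _ => ?_)
        exact Ideal.mul_mem_mul (hs _ (hM q hq i)) (hh i)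
      refine ⟨?_, h3⟩
      rw [show aeval u q = aeval s q + (aeval u q - aeval s q) by ring]
      exact add_mem (hs q hq) (Ideal.mul_le_left h3)
    have hhI : h j ∈ I := dpPow_le hI hk (hh j)
    obtain ⟨B, hB⟩ := aeval_update hI j u hhI g
    rw [hupd, hB (B + 2) (by omega), Finset.sum_range_succ', Finset.sum_range_succ',
      Finset.sum_insert hj, hI.dpow_zero hhI, Function.iterate_zero, id_eq, mul_one, zero_add,
      Function.iterate_one, hI.dpow_one hhI]
    have hn : ∑ n ∈ Finset.range B, aeval u ((pderiv j)^[n + 1 + 1] g) * hI.dpow (n + 1 + 1) (h j) ∈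
        Ideal.span {a} * dpPow hI (2 * k) := by
      refine sum_mem fun n _ => Ideal.mul_mem_mul (h1 _ ?_).1
        (dpPow_antitone hI (Nat.mul_le_mul_right k (by omega)) (dpow_mem_dpPow hI hk _ (hh j)))
      induction n + 1 with
      | zero => exact hg j
      | succ n ihn => rw [Function.iterate_succ_apply']; exact hM _ ihn j
    have hl : (aeval u (pderiv j g) - aeval s (pderiv j g)) * h j ∈
        Ideal.span {a} * dpPow hI (2 * k) := by
      have := Ideal.mul_mem_mul (h1 _ (hg j)).2 (hh j)
      rw [mul_assoc] at this
      refine Ideal.mul_mono_right (Ideal.mul_le.2 fun x hx y hy => ?_) this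
      rw [two_mul]; exact mul_mem_dpPow hI hx hy
    have h0 := ih g hg
    convert add_mem (add_mem hn hl) h0 using 1
    ring

end FontaineLib
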